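import Mathlib
import Groth.Agent.Lib.Helper6.Lift.Amitsur

/-!
# Twisted forms, part 1: forms of modules along a flat ring map, in "model" form (helper6)

`R → S` is a ring map, `N` an `S`-module.  A *coaction* is an `S`-linear map `a : N → N₁` where
`N₁` is a model of `S ⊗[R] N` (through `β = liftBaseChange S ι`, `ι : N → N₁` the map `n ↦ 1 ⊗ n`).
The descended module is `ker (a - ι)`.
-/

set_option autoImplicit false
set_option linter.unusedSectionVars false
set_option linter.unusedVariables false
set_option linter.unusedSimpArgs false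
set_option linter.style.haveILetI false
set_option linter.overlappingInstances false
set_option maxHeartbeats 800000
set_option synthInstance.maxHeartbeats 400000

universe u
open TensorProduct

namespace Groth.Agent.Lib.Helper6.TwForm

section Model

variable {R S : Type u} [CommRing R] [CommRing S] [Algebra R S]
variable {N N₁ N₂ : Type u} [AddCommGroup N] [Module R N] [Module S N] [IsScalarTower R S N]
  [AddCommGroup N₁] [Module R N₁] [Module S N₁] [IsScalarTower R S N₁]
  [AddCommGroup N₂] [Module R N₂] [Module S N₂] [IsScalarTower R S N₂]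

/-- `s ⊗ n ↦ s • n`. -/
noncomputable def mulMap (R S N : Type u) [CommRing R] [CommRing S] [Algebra R S]
    [AddCommGroup N] [Module R N] [Module S N] [IsScalarTower R S N] : S ⊗[R] N →ₗ[S] N :=
  LinearMap.liftBaseChange S (LinearMap.id : N →ₗ[R] N)

@[simp] lemma mulMap_tmul (s : S) (n : N) : mulMap R S N (s ⊗ₜ[R] n) = s • n := rfl

lemma mulMap_lTensor (f : N →ₗ[R] N₁) (hf : ∀ (s : S) (n : N), f (s • n) = s • f n)
    (w : S ⊗[R] N) :
    mulMap R S N₁ (LinearMap.lTensor S f w) = f (mulMap R S N w) := by
  induction w using TensorProduct.induction_on with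
  | zero => simp
  | tmul s n => rw [LinearMap.lTensor_tmul, mulMap_tmul, mulMap_tmul, hf]
  | add x y hx hy => simp only [map_add, hx, hy]

lemma mulMap_lTensor' {K : Type u} [AddCommGroup K] [Module R K] (ι : K →ₗ[R] N₁)
    (w : S ⊗[R] K) :
    mulMap R S N₁ (LinearMap.lTensor S ι w) = LinearMap.liftBaseChange S ι w := by
  induction w using TensorProduct.induction_on with
  | zero => simp
  | tmul s n => rw [LinearMap.lTensor_tmul, mulMap_tmul, LinearMap.liftBaseChange_tmul]
  | add x y hx hy => simp only [map_add, hx, hy]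

lemma key_claim (a ι : N →ₗ[R] N₁) (ha : ∀ (s : S) (n : N), a (s • n) = s • a n)
    (w : S ⊗[R] N) (hw : LinearMap.lTensor S (a - ι) w = 0) :
    a (mulMap R S N w) = LinearMap.liftBaseChange S ι w := by
  rw [← mulMap_lTensor a ha, ← mulMap_lTensor' ι]
  congr 1
  rw [LinearMap.lTensor_sub, LinearMap.sub_apply, sub_eq_zero] at hw
  exact hw

lemma lTensor_ker_subtype (a ι : N →ₗ[R] N₁) (z : S ⊗[R] LinearMap.ker (a - ι)) :
    LinearMap.lTensor S (a - ι) (LinearMap.lTensor S (LinearMap.ker (a - ι)).subtype z) = 0 := by
  rw [← LinearMap.comp_apply, ← LinearMap.lTensor_comp, LinearMap.comp_ker_subtype,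
    LinearMap.lTensor_zero, LinearMap.zero_apply]

/-- Injectivity half of descent (only flatness and injectivity of the model map are needed). -/
theorem form_injective [Module.Flat R S] (a ι : N →ₗ[R] N₁)
    (ha : ∀ (s : S) (n : N), a (s • n) = s • a n)
    (hβ : Function.Injective (LinearMap.liftBaseChange S ι)) :
    Function.Injective (LinearMap.liftBaseChange S (LinearMap.ker (a - ι)).subtype) := by
  rw [injective_iff_map_eq_zero]
  intro z hz
  have hinj : Function.Injective (LinearMap.lTensor S (LinearMap.ker (a - ι)).subtype) :=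
    Module.Flat.lTensor_preserves_injective_linearMap (M := S) (LinearMap.ker (a - ι)).subtype
      (Submodule.injective_subtype (LinearMap.ker (a - ι)))
  apply hinj
  rw [map_zero]
  apply hβ
  rw [map_zero, ← key_claim a ι ha _ (lTensor_ker_subtype a ι z), mulMap_lTensor', hz, map_zero]

/-- Surjectivity half of descent. -/
theorem form_surjective [Module.Flat R S] (a ι : N →ₗ[R] N₁)
    (hβ : Function.Surjective (LinearMap.liftBaseChange S ι))
    (ε : N₁ →+ N) (hε : ∀ (s : S) (n : N), ε (s • ι n) = s • n)
    (hcounit : ∀ n, ε (a n) = n)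
    (a₁ δ₁ : N₁ →+ N₂) (ι₁ : N₁ →ₗ[R] N₂)
    (ha₁ : ∀ (s : S) (n : N), a₁ (s • ι n) = s • ι₁ (a n))
    (hδ₁ : ∀ (s : S) (n : N), δ₁ (s • ι n) = s • ι₁ (ι n))
    (hβ₁ : Function.Injective (LinearMap.liftBaseChange S ι₁))
    (hco : ∀ n, a₁ (a n) = δ₁ (a n)) :
    Function.Surjective (LinearMap.liftBaseChange S (LinearMap.ker (a - ι)).subtype) := by
  intro n
  obtain ⟨w, hw⟩ := hβ (a n)
  have hB : ∀ w : S ⊗[R] N, LinearMap.liftBaseChange S ι₁ (LinearMap.lTensor S a w) =
      a₁ (LinearMap.liftBaseChange S ι w) := by
    intro w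
    induction w using TensorProduct.induction_on with
    | zero => simp
    | tmul s n =>
      rw [LinearMap.lTensor_tmul, LinearMap.liftBaseChange_tmul, LinearMap.liftBaseChange_tmul, ha₁]
    | add x y hx hy => simp only [map_add, hx, hy]
  have hC : ∀ w : S ⊗[R] N, LinearMap.liftBaseChange S ι₁ (LinearMap.lTensor S ι w) =
      δ₁ (LinearMap.liftBaseChange S ι w) := by
    intro w
    induction w using TensorProduct.induction_on with
    | zero => simp
    | tmul s n =>
      rw [LinearMap.lTensor_tmul, LinearMap.liftBaseChange_tmul, LinearMap.liftBaseChange_tmul, hδ₁]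
    | add x y hx hy => simp only [map_add, hx, hy]
  have hD : ∀ w : S ⊗[R] N, ε (LinearMap.liftBaseChange S ι w) = mulMap R S N w := by
    intro w
    induction w using TensorProduct.induction_on with
    | zero => simp
    | tmul s n => rw [LinearMap.liftBaseChange_tmul, hε, mulMap_tmul]
    | add x y hx hy => simp only [map_add, hx, hy]
  have hker : LinearMap.lTensor S (a - ι) w = 0 := by
    apply hβ₁
    rw [map_zero, LinearMap.lTensor_sub, LinearMap.sub_apply, map_sub, hB, hC, hw, hco, sub_self]
  obtain ⟨z, hz⟩ := (Module.Flat.lTensor_exact S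
    (LinearMap.exact_subtype_ker_map (a - ι)) w).mp hker
  refine ⟨z, ?_⟩
  rw [← mulMap_lTensor', hz, ← hD, hw, hcounit]

end Model

section Tensor

variable {R S : Type u} [CommRing R] [CommRing S] [Algebra R S]
variable {D D' N N' : Type u} [AddCommGroup D] [Module R D] [AddCommGroup D'] [Module R D']
  [AddCommGroup N] [Module R N] [Module S N] [IsScalarTower R S N]
  [AddCommGroup N'] [Module R N'] [Module S N'] [IsScalarTower R S N']

/-- `x ⊗ y ↦ i x ⊗ i' y`, from the tensor product over `R` to the one over `S`. -/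
noncomputable def kap (S : Type u) [CommRing S] [Algebra R S] [Module S N] [IsScalarTower R S N]
    [Module S N'] [IsScalarTower R S N'] (i : D →ₗ[R] N) (i' : D' →ₗ[R] N') :
    D ⊗[R] D' →ₗ[R] N ⊗[S] N' :=
  (TensorProduct.mapOfCompatibleSMul S R R N N').comp (TensorProduct.map i i')

@[simp] lemma kap_tmul (i : D →ₗ[R] N) (i' : D' →ₗ[R] N') (x : D) (y : D') :
    kap S i i' (x ⊗ₜ[R] y) = i x ⊗ₜ[S] i' y := rfl

/-- If `D`, `D'` are forms of `N`, `N'`, then `D ⊗ D'` is a form of `N ⊗ N'`. -/
theorem formTensor_bijective (i : D →ₗ[R] N) (i' : D' →ₗ[R] N')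
    (h : Function.Bijective (LinearMap.liftBaseChange S i))
    (h' : Function.Bijective (LinearMap.liftBaseChange S i')) :
    Function.Bijective (LinearMap.liftBaseChange S (kap S i i')) := by
  let θ : S ⊗[R] D ≃ₗ[S] N := LinearEquiv.ofBijective _ h
  let θ' : S ⊗[R] D' ≃ₗ[S] N' := LinearEquiv.ofBijective _ h'
  let e : S ⊗[R] (D ⊗[R] D') ≃ₗ[S] N ⊗[S] N' :=
    (TensorProduct.AlgebraTensorModule.distribBaseChange R S D D') ≪≫ₗ TensorProduct.congr θ θ'
  have he : ∀ z, LinearMap.liftBaseChange S (kap S i i') z = e z := by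
    intro z
    induction z using TensorProduct.induction_on with
    | zero => simp
    | tmul s w =>
      induction w using TensorProduct.induction_on with
      | zero => simp
      | tmul x y =>
        rw [LinearMap.liftBaseChange_tmul, kap_tmul]
        show _ = TensorProduct.congr θ θ'
          (TensorProduct.AlgebraTensorModule.distribBaseChange R S D D' (s ⊗ₜ[R] (x ⊗ₜ[R] y)))
        rw [TensorProduct.AlgebraTensorModule.distribBaseChange_tmul, TensorProduct.congr_tmul]
        show _ = (LinearMap.liftBaseChange S i (s ⊗ₜ[R] x)) ⊗ₜ[S]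
          (LinearMap.liftBaseChange S i' ((1 : S) ⊗ₜ[R] y))
        rw [LinearMap.liftBaseChange_tmul, LinearMap.liftBaseChange_tmul, one_smul,
          TensorProduct.smul_tmul']
      | add x y hx hy => rw [TensorProduct.tmul_add, map_add, map_add, hx, hy]
    | add x y hx hy => rw [map_add, map_add, hx, hy]
  have : (LinearMap.liftBaseChange S (kap S i i') : S ⊗[R] (D ⊗[R] D') → N ⊗[S] N') = e :=
    funext he
  rw [this]
  exact e.bijective

/-- For a faithfully flat `R → S`, `kap` is injective on forms. -/
theorem kap_injective [Module.FaithfullyFlat R S] (i : D →ₗ[R] N) (i' : D' →ₗ[R] N')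
    (h : Function.Bijective (LinearMap.liftBaseChange S i))
    (h' : Function.Bijective (LinearMap.liftBaseChange S i')) :
    Function.Injective (kap S i i') := by
  intro z z' hzz'
  have h1 : LinearMap.liftBaseChange S (kap S i i') ((1 : S) ⊗ₜ[R] z) =
      LinearMap.liftBaseChange S (kap S i i') ((1 : S) ⊗ₜ[R] z') := by
    rw [LinearMap.liftBaseChange_tmul, LinearMap.liftBaseChange_tmul, hzz']
  have h2 := (formTensor_bijective i i' h h').1 h1
  exact Module.FaithfullyFlat.tensorProduct_mk_injective (A := R) (B := S) (D ⊗[R] D') h2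

end Tensor

section Unique

variable {R S : Type u} [CommRing R] [CommRing S] [Algebra R S]
variable {P : Type u} [AddCommGroup P] [Module R P] [Module S P] [IsScalarTower R S P]

/-- Two nested `R`-submodules of `P`, the smaller a form and the base change of the bigger one
injecting into `P`, are equal. -/
theorem form_unique [Module.FaithfullyFlat R S] (E E' : Submodule R P) (hEE' : E ≤ E')
    (hE : Function.Surjective (LinearMap.liftBaseChange S E.subtype))
    (hE' : Function.Injective (LinearMap.liftBaseChange S E'.subtype)) : E = E' := by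
  refine le_antisymm hEE' ?_
  let j : E →ₗ[R] E' := Submodule.inclusion hEE'
  have hcomm : ∀ z : S ⊗[R] E, LinearMap.liftBaseChange S E'.subtype (LinearMap.lTensor S j z) =
      LinearMap.liftBaseChange S E.subtype z := by
    intro z
    induction z using TensorProduct.induction_on with
    | zero => simp
    | tmul s x => rw [LinearMap.lTensor_tmul, LinearMap.liftBaseChange_tmul,
        LinearMap.liftBaseChange_tmul]; rfl
    | add x y hx hy => simp only [map_add, hx, hy]
  have hj : Function.Surjective (LinearMap.lTensor S j) := by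
    intro w
    obtain ⟨z, hz⟩ := hE (LinearMap.liftBaseChange S E'.subtype w)
    refine ⟨z, hE' ?_⟩
    rw [← hz, hcomm]
  have hj' : Function.Surjective j :=
    (Module.FaithfullyFlat.lTensor_surjective_iff_surjective R S j).mp hj
  intro x hx
  obtain ⟨y, hy⟩ := hj' ⟨x, hx⟩
  have : (y : P) = x := congrArg Subtype.val hy
  rw [← this]
  exact y.2

end Unique

section General

variable {R S : Type u} [CommRing R] [CommRing S] [Algebra R S]
variable {N N₁ N₂ : Type u} [AddCommGroup N] [Module R N] [Module S N] [IsScalarTower R S N]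
  [AddCommGroup N₁] [Module R N₁] [Module S N₁] [IsScalarTower R S N₁]
  [AddCommGroup N₂] [Module R N₂] [Module S N₂] [IsScalarTower R S N₂]
variable {D : Type u} [AddCommGroup D] [Module R D]

/-- the comparison map from `D` to the kernel -/
noncomputable def toKer (a ι : N →ₗ[R] N₁) (i : D →ₗ[R] N) (h1 : ∀ x, a (i x) = ι (i x)) :
    D →ₗ[R] LinearMap.ker (a - ι) :=
  LinearMap.codRestrict _ i (fun x => by
    rw [LinearMap.mem_ker, LinearMap.sub_apply, h1, sub_self])

lemma liftBaseChange_toKer (a ι : N →ₗ[R] N₁) (i : D →ₗ[R] N) (h1 : ∀ x, a (i x) = ι (i x))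
    (z : S ⊗[R] D) :
    LinearMap.liftBaseChange S (LinearMap.ker (a - ι)).subtype
      (LinearMap.lTensor S (toKer a ι i h1) z) = LinearMap.liftBaseChange S i z := by
  induction z using TensorProduct.induction_on with
  | zero => simp
  | tmul s x => rw [LinearMap.lTensor_tmul, LinearMap.liftBaseChange_tmul,
      LinearMap.liftBaseChange_tmul]; rfl
  | add x y hx hy => simp only [map_add, hx, hy]

/-- Injectivity half of descent, for a general map onto the descended module. -/
theorem form_injective' [Module.Flat R S] (a ι : N →ₗ[R] N₁)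
    (ha : ∀ (s : S) (n : N), a (s • n) = s • a n)
    (hβ : Function.Injective (LinearMap.liftBaseChange S ι))
    (i : D →ₗ[R] N) (hi : Function.Injective i) (h1 : ∀ x, a (i x) = ι (i x)) :
    Function.Injective (LinearMap.liftBaseChange S i) := by
  have hj : Function.Injective (toKer a ι i h1) := by
    intro x y hxy
    apply hi
    exact congrArg Subtype.val hxy
  have hj' : Function.Injective (LinearMap.lTensor S (toKer a ι i h1)) :=
    Module.Flat.lTensor_preserves_injective_linearMap (M := S) (toKer a ι i h1) hj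
  intro z z' hzz'
  apply hj'
  apply form_injective a ι ha hβ
  rw [liftBaseChange_toKer, liftBaseChange_toKer, hzz']

/-- Surjectivity half of descent, for a general map onto the descended module. -/
theorem form_surjective' [Module.Flat R S] (a ι : N →ₗ[R] N₁)
    (hβ : Function.Surjective (LinearMap.liftBaseChange S ι))
    (ε : N₁ →+ N) (hε : ∀ (s : S) (n : N), ε (s • ι n) = s • n)
    (hcounit : ∀ n, ε (a n) = n)
    (a₁ δ₁ : N₁ →+ N₂) (ι₁ : N₁ →ₗ[R] N₂)
    (ha₁ : ∀ (s : S) (n : N), a₁ (s • ι n) = s • ι₁ (a n))
    (hδ₁ : ∀ (s : S) (n : N), δ₁ (s • ι n) = s • ι₁ (ι n))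
    (hβ₁ : Function.Injective (LinearMap.liftBaseChange S ι₁))
    (hco : ∀ n, a₁ (a n) = δ₁ (a n))
    (i : D →ₗ[R] N) (h1 : ∀ x, a (i x) = ι (i x)) (h2 : ∀ n, a n = ι n → ∃ x, i x = n) :
    Function.Surjective (LinearMap.liftBaseChange S i) := by
  have hj : Function.Surjective (toKer a ι i h1) := by
    rintro ⟨n, hn⟩
    rw [LinearMap.mem_ker, LinearMap.sub_apply, sub_eq_zero] at hn
    obtain ⟨x, hx⟩ := h2 n hn
    exact ⟨x, Subtype.ext hx⟩
  have hj' : Function.Surjective (LinearMap.lTensor S (toKer a ι i h1)) :=
    LinearMap.lTensor_surjective S hj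
  intro n
  obtain ⟨z, hz⟩ := form_surjective a ι hβ ε hε hcounit a₁ δ₁ ι₁ ha₁ hδ₁ hβ₁ hco n
  obtain ⟨w, hw⟩ := hj' z
  refine ⟨w, ?_⟩
  rw [← liftBaseChange_toKer a ι i h1, hw, hz]

end General

section Unique'

variable {R S : Type u} [CommRing R] [CommRing S] [Algebra R S]
variable {P : Type u} [AddCommGroup P] [Module R P] [Module S P] [IsScalarTower R S P]
variable {D D' : Type u} [AddCommGroup D] [Module R D] [AddCommGroup D'] [Module R D']

/-- A map between two `R`-modules over `P`, the source a form and the base change of the target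
injecting into `P`, is surjective. -/
theorem form_unique' [Module.FaithfullyFlat R S] (j : D →ₗ[R] D') (i : D →ₗ[R] P)
    (i' : D' →ₗ[R] P) (hij : ∀ x, i' (j x) = i x)
    (hE : Function.Surjective (LinearMap.liftBaseChange S i))
    (hE' : Function.Injective (LinearMap.liftBaseChange S i')) : Function.Surjective j := by
  have hcomm : ∀ z : S ⊗[R] D, LinearMap.liftBaseChange S i' (LinearMap.lTensor S j z) =
      LinearMap.liftBaseChange S i z := by
    intro z
    induction z using TensorProduct.induction_on with
    | zero => simp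
    | tmul s x => rw [LinearMap.lTensor_tmul, LinearMap.liftBaseChange_tmul,
        LinearMap.liftBaseChange_tmul, hij]
    | add x y hx hy => simp only [map_add, hx, hy]
  have hj : Function.Surjective (LinearMap.lTensor S j) := by
    intro w
    obtain ⟨z, hz⟩ := hE (LinearMap.liftBaseChange S i' w)
    refine ⟨z, hE' ?_⟩
    rw [← hz, hcomm]
  exact (Module.FaithfullyFlat.lTensor_surjective_iff_surjective R S j).mp hj

end Unique'

end Groth.Agent.Lib.Helper6.TwForm
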