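import Mathlib
import Groth.Agent.Lib.Helper6.TwForm.TW1
import Groth.Agent.Lib.Helper6.MultType.Basic

/-!
# Twisted forms, part 2: descent of a Hopf algebra structure to a form (helper6)

`R → S` faithfully flat, `N` a commutative Hopf algebra over `S`, `i : D → N` an `R`-algebra map
making `D` a form of `N` (`S ⊗[R] D ≃ N`).  If the comultiplication, counit and antipode of `N`
preserve `D`, then `D` is a Hopf algebra over `R` and `S ⊗[R] D ≃ N` as bialgebras.
-/

set_option autoImplicit false
set_option linter.unusedSectionVars false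
set_option linter.unusedVariables false
set_option linter.unusedSimpArgs false
set_option linter.style.haveILetI false
set_option linter.overlappingInstances false
set_option maxHeartbeats 800000
set_option synthInstance.maxHeartbeats 400000

universe u
open TensorProduct Coalgebra
open Groth.Agent.Lib.Helper6.MultType

namespace Groth.Agent.Lib.Helper6.TwForm

section FormHopf

variable {R S : Type u} [CommRing R] [CommRing S] [Algebra R S]
variable {N : Type u} [CommRing N] [HopfAlgebra S N] [Algebra R N] [IsScalarTower R S N]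
variable {D : Type u} [CommRing D] [Algebra R D] (i : D →ₐ[R] N)

/-- `x ⊗ y ↦ i x ⊗ i y` as an algebra map. -/
noncomputable def kapA : D ⊗[R] D →ₐ[R] N ⊗[S] N :=
  Algebra.TensorProduct.lift
    ((Algebra.TensorProduct.includeLeft : N →ₐ[R] N ⊗[S] N).comp i)
    (((Algebra.TensorProduct.includeRight : N →ₐ[S] N ⊗[S] N).restrictScalars R).comp i)
    (fun _ _ => Commute.all _ _)

lemma kapA_tmul (x y : D) : kapA (S := S) i (x ⊗ₜ[R] y) = i x ⊗ₜ[S] i y := by
  rw [kapA, Algebra.TensorProduct.lift_tmul]
  show (i x ⊗ₜ[S] (1 : N)) * ((1 : N) ⊗ₜ[S] i y) = _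
  rw [Algebra.TensorProduct.tmul_mul_tmul, mul_one, one_mul]

lemma kapA_eq_kap (z : D ⊗[R] D) :
    kapA (S := S) i z = kap S i.toLinearMap i.toLinearMap z := by
  induction z using TensorProduct.induction_on with
  | zero => simp
  | tmul x y => rw [kapA_tmul, kap_tmul]; rfl
  | add x y hx hy => rw [map_add, map_add, hx, hy]

/-- the triple version -/
noncomputable def kap3 : D ⊗[R] (D ⊗[R] D) →ₗ[R] N ⊗[S] (N ⊗[S] N) :=
  kap S i.toLinearMap (kapA (S := S) i).toLinearMap

lemma kap3_tmul (x : D) (w : D ⊗[R] D) :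
    kap3 (S := S) i (x ⊗ₜ[R] w) = i x ⊗ₜ[S] kapA (S := S) i w := rfl

variable (Δ : D →ₐ[R] D ⊗[R] D) (ε : D →ₐ[R] R) (σ : D →ₐ[R] D)

/-- counit, left -/
lemma L1 (hε : ∀ x, algebraMap R S (ε x) = counit (R := S) (i x)) (z : D ⊗[R] D) :
    i (Algebra.TensorProduct.lid R D (Algebra.TensorProduct.map ε (AlgHom.id R D) z)) =
      TensorProduct.lid S N ((counit (R := S) (A := N)).rTensor N (kapA (S := S) i z)) := by
  induction z using TensorProduct.induction_on with
  | zero => simp
  | tmul x y =>
    rw [Algebra.TensorProduct.map_tmul, Algebra.TensorProduct.lid_tmul, kapA_tmul,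
      LinearMap.rTensor_tmul, TensorProduct.lid_tmul, ← hε, map_smul, AlgHom.coe_id, id_eq,
      algebraMap_smul]
  | add x y hx hy => simp only [map_add, hx, hy]

/-- counit, right -/
lemma L2 (hε : ∀ x, algebraMap R S (ε x) = counit (R := S) (i x)) (z : D ⊗[R] D) :
    i (Algebra.TensorProduct.rid R R D (Algebra.TensorProduct.map (AlgHom.id R D) ε z)) =
      TensorProduct.rid S N ((counit (R := S) (A := N)).lTensor N (kapA (S := S) i z)) := by
  induction z using TensorProduct.induction_on with
  | zero => simp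
  | tmul x y =>
    rw [Algebra.TensorProduct.map_tmul, Algebra.TensorProduct.rid_tmul, kapA_tmul,
      LinearMap.lTensor_tmul, TensorProduct.rid_tmul, ← hε, map_smul, AlgHom.coe_id, id_eq,
      algebraMap_smul]
  | add x y hx hy => simp only [map_add, hx, hy]

/-- coassociativity, left side -/
lemma L3a_aux (w : D ⊗[R] D) (y : D) :
    kap3 (S := S) i (Algebra.TensorProduct.assoc R R R D D D (w ⊗ₜ[R] y)) =
      TensorProduct.assoc S N N N ((kapA (S := S) i w) ⊗ₜ[S] i y) := by
  induction w using TensorProduct.induction_on with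
  | zero => simp
  | tmul u v =>
    rw [Algebra.TensorProduct.assoc_tmul, kap3_tmul, kapA_tmul, kapA_tmul,
      TensorProduct.assoc_tmul]
  | add a b ha hb => rw [TensorProduct.add_tmul, map_add, map_add, ha, hb, map_add,
      TensorProduct.add_tmul, map_add]

lemma L3a (hΔ : ∀ x, kapA (S := S) i (Δ x) = comul (R := S) (i x)) (z : D ⊗[R] D) :
    kap3 (S := S) i (Algebra.TensorProduct.assoc R R R D D D
      (Algebra.TensorProduct.map Δ (AlgHom.id R D) z)) =
      TensorProduct.assoc S N N N ((comul (R := S) (A := N)).rTensor N (kapA (S := S) i z)) := by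
  induction z using TensorProduct.induction_on with
  | zero => simp
  | tmul x y =>
    rw [Algebra.TensorProduct.map_tmul, AlgHom.coe_id, id_eq, L3a_aux, hΔ, kapA_tmul,
      LinearMap.rTensor_tmul]
  | add x y hx hy => simp only [map_add, hx, hy]

/-- coassociativity, right side -/
lemma L3b (hΔ : ∀ x, kapA (S := S) i (Δ x) = comul (R := S) (i x)) (z : D ⊗[R] D) :
    kap3 (S := S) i (Algebra.TensorProduct.map (AlgHom.id R D) Δ z) =
      (comul (R := S) (A := N)).lTensor N (kapA (S := S) i z) := by
  induction z using TensorProduct.induction_on with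
  | zero => simp
  | tmul x y =>
    rw [Algebra.TensorProduct.map_tmul, AlgHom.coe_id, id_eq, kap3_tmul, hΔ, kapA_tmul,
      LinearMap.lTensor_tmul]
  | add x y hx hy => simp only [map_add, hx, hy]

/-- antipode, left -/
lemma L4 (hσ : ∀ x, i (σ x) = HopfAlgebra.antipode S (i x)) (z : D ⊗[R] D) :
    i (LinearMap.mul' R D (σ.toLinearMap.rTensor D z)) =
      LinearMap.mul' S N ((HopfAlgebra.antipode S (A := N)).rTensor N (kapA (S := S) i z)) := by
  induction z using TensorProduct.induction_on with
  | zero => simp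
  | tmul x y =>
    rw [LinearMap.rTensor_tmul, LinearMap.mul'_apply, kapA_tmul, LinearMap.rTensor_tmul,
      LinearMap.mul'_apply, map_mul, AlgHom.toLinearMap_apply, hσ]
  | add x y hx hy => simp only [map_add, hx, hy]

/-- antipode, right -/
lemma L5 (hσ : ∀ x, i (σ x) = HopfAlgebra.antipode S (i x)) (z : D ⊗[R] D) :
    i (LinearMap.mul' R D (σ.toLinearMap.lTensor D z)) =
      LinearMap.mul' S N ((HopfAlgebra.antipode S (A := N)).lTensor N (kapA (S := S) i z)) := by
  induction z using TensorProduct.induction_on with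
  | zero => simp
  | tmul x y =>
    rw [LinearMap.lTensor_tmul, LinearMap.mul'_apply, kapA_tmul, LinearMap.lTensor_tmul,
      LinearMap.mul'_apply, map_mul, AlgHom.toLinearMap_apply, hσ]
  | add x y hx hy => simp only [map_add, hx, hy]

end FormHopf

section Main

variable {R S : Type u} [CommRing R] [CommRing S] [Algebra R S] [Module.FaithfullyFlat R S]
variable {N : Type u} [CommRing N] [HopfAlgebra S N] [Algebra R N] [IsScalarTower R S N]
variable {D : Type u} [CommRing D] [Algebra R D] (i : D →ₐ[R] N)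

lemma kapA_injective (hθ : Function.Bijective (LinearMap.liftBaseChange S i.toLinearMap)) :
    Function.Injective (kapA (S := S) i) := by
  intro z z' h
  apply kap_injective (S := S) i.toLinearMap i.toLinearMap hθ hθ
  rw [← kapA_eq_kap, ← kapA_eq_kap, h]

lemma kapA_form (hθ : Function.Bijective (LinearMap.liftBaseChange S i.toLinearMap)) :
    Function.Bijective (LinearMap.liftBaseChange S (kapA (S := S) i).toLinearMap) := by
  have h1 : (kapA (S := S) i).toLinearMap = kap S i.toLinearMap i.toLinearMap :=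
    LinearMap.ext fun z => kapA_eq_kap i z
  rw [h1]
  exact formTensor_bijective i.toLinearMap i.toLinearMap hθ hθ

lemma kap3_injective (hθ : Function.Bijective (LinearMap.liftBaseChange S i.toLinearMap)) :
    Function.Injective (kap3 (S := S) i) :=
  kap_injective (S := S) i.toLinearMap (kapA (S := S) i).toLinearMap hθ (kapA_form i hθ)

lemma form_map_injective (hθ : Function.Bijective (LinearMap.liftBaseChange S i.toLinearMap)) :
    Function.Injective i := by
  intro x y hxy
  have h1 : LinearMap.liftBaseChange S i.toLinearMap ((1 : S) ⊗ₜ[R] x) =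
      LinearMap.liftBaseChange S i.toLinearMap ((1 : S) ⊗ₜ[R] y) := by
    rw [LinearMap.liftBaseChange_tmul, LinearMap.liftBaseChange_tmul]
    show (1 : S) • i x = (1 : S) • i y
    rw [hxy]
  exact Module.FaithfullyFlat.tensorProduct_mk_injective (A := R) (B := S) D (hθ.1 h1)

variable (Δ : D →ₐ[R] D ⊗[R] D) (ε : D →ₐ[R] R) (σ : D →ₐ[R] D)

/-- the descended bialgebra structure -/
@[reducible] noncomputable def formBialgebra (hi : Function.Injective i)
    (hκ₃ : Function.Injective (kap3 (S := S) i))
    (hΔ : ∀ x, kapA (S := S) i (Δ x) = comul (R := S) (i x))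
    (hε : ∀ x, algebraMap R S (ε x) = counit (R := S) (i x)) : Bialgebra R D :=
  Bialgebra.ofAlgHom Δ ε
    (by
      apply AlgHom.ext
      intro x
      apply hκ₃
      show kap3 (S := S) i (Algebra.TensorProduct.assoc R R R D D D
        (Algebra.TensorProduct.map Δ (AlgHom.id R D) (Δ x))) =
        kap3 (S := S) i (Algebra.TensorProduct.map (AlgHom.id R D) Δ (Δ x))
      rw [L3a i Δ hΔ, L3b i Δ hΔ, hΔ, Coalgebra.coassoc_apply])
    (by
      apply AlgHom.ext
      intro x
      apply (Algebra.TensorProduct.lid R D).injective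
      apply hi
      show i (Algebra.TensorProduct.lid R D (Algebra.TensorProduct.map ε (AlgHom.id R D) (Δ x))) =
        i (Algebra.TensorProduct.lid R D ((Algebra.TensorProduct.lid R D).symm x))
      rw [AlgEquiv.apply_symm_apply, L1 i ε hε, hΔ, Coalgebra.rTensor_counit_comul,
        TensorProduct.lid_tmul, one_smul])
    (by
      apply AlgHom.ext
      intro x
      apply (Algebra.TensorProduct.rid R R D).injective
      apply hi
      show i (Algebra.TensorProduct.rid R R D
        (Algebra.TensorProduct.map (AlgHom.id R D) ε (Δ x))) =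
        i (Algebra.TensorProduct.rid R R D ((Algebra.TensorProduct.rid R R D).symm x))
      rw [AlgEquiv.apply_symm_apply, L2 i ε hε, hΔ, Coalgebra.lTensor_counit_comul,
        TensorProduct.rid_tmul, one_smul])

/-- the descended Hopf algebra structure -/
@[reducible] noncomputable def formHopf (hi : Function.Injective i)
    (hκ₃ : Function.Injective (kap3 (S := S) i))
    (hΔ : ∀ x, kapA (S := S) i (Δ x) = comul (R := S) (i x))
    (hε : ∀ x, algebraMap R S (ε x) = counit (R := S) (i x))
    (hσ : ∀ x, i (σ x) = HopfAlgebra.antipode S (i x)) : HopfAlgebra R D :=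
  letI : Bialgebra R D := formBialgebra i Δ ε hi hκ₃ hΔ hε
  { antipode := σ.toLinearMap
    mul_antipode_rTensor_comul := by
      apply LinearMap.ext
      intro x
      apply hi
      show i (LinearMap.mul' R D (σ.toLinearMap.rTensor D (Δ x))) = i (algebraMap R D (ε x))
      rw [L4 i σ hσ, hΔ, HopfAlgebra.mul_antipode_rTensor_comul_apply, AlgHom.commutes, ← hε,
        ← IsScalarTower.algebraMap_apply]
    mul_antipode_lTensor_comul := by
      apply LinearMap.ext
      intro x
      apply hi
      show i (LinearMap.mul' R D (σ.toLinearMap.lTensor D (Δ x))) = i (algebraMap R D (ε x))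
      rw [L5 i σ hσ, hΔ, HopfAlgebra.mul_antipode_lTensor_comul_apply, AlgHom.commutes, ← hε,
        ← IsScalarTower.algebraMap_apply] }

end Main

section Exists

variable {R S : Type u} [CommRing R] [CommRing S] [Algebra R S] [Module.FaithfullyFlat R S]
variable {N : Type u} [CommRing N] [HopfAlgebra S N] [Algebra R N] [IsScalarTower R S N]
variable {D : Type u} [CommRing D] [Algebra R D] (i : D →ₐ[R] N)

/-- the comparison algebra map `S ⊗ D → N` -/
noncomputable def thetaA : S ⊗[R] D →ₐ[S] N :=
  Algebra.TensorProduct.lift (Algebra.ofId S N) i (fun _ _ => Commute.all _ _)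

lemma thetaA_tmul (s : S) (x : D) : thetaA (S := S) i (s ⊗ₜ[R] x) = s • i x := by
  rw [thetaA, Algebra.TensorProduct.lift_tmul, Algebra.ofId_apply, Algebra.smul_def]

lemma thetaA_eq (z : S ⊗[R] D) :
    thetaA (S := S) i z = LinearMap.liftBaseChange S i.toLinearMap z := by
  induction z using TensorProduct.induction_on with
  | zero => simp
  | tmul s x => rw [thetaA_tmul, LinearMap.liftBaseChange_tmul]; rfl
  | add x y hx hy => rw [map_add, map_add, hx, hy]

/-- Descent of a Hopf algebra structure to a form. -/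
theorem exists_hopf_of_form
    (hθ : Function.Bijective (LinearMap.liftBaseChange S i.toLinearMap))
    (c1 : ∀ x : D, ∃ z : D ⊗[R] D,
      kap S i.toLinearMap i.toLinearMap z = comul (R := S) (i x))
    (c2 : ∀ x : D, ∃ r : R, algebraMap R S r = counit (R := S) (i x))
    (c3 : ∀ x : D, ∃ y : D, i y = HopfAlgebra.antipode S (i x)) :
    ∃ (A : Type u) (_ : CommRing A) (_ : HopfAlgebra R A) (e : S ⊗[R] A ≃ₐc[S] N),
      ∀ n : N, (∃ x : A, e ((1 : S) ⊗ₜ[R] x) = n) ↔ ∃ d : D, i d = n := by
  have hκ₂ := kapA_injective i hθ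
  have hκ₃ := kap3_injective i hθ
  have hi := form_map_injective i hθ
  have hR : Function.Injective (Algebra.ofId R S) := FaithfulSMul.algebraMap_injective R S
  -- comultiplication
  obtain ⟨Δ, hΔ⟩ : ∃ Δ : D →ₐ[R] D ⊗[R] D,
      ∀ x, kapA (S := S) i (Δ x) = comul (R := S) (i x) := by
    obtain ⟨f, hf⟩ : ∃ f : D →ₐ[R] N ⊗[S] N, ∀ x, f x = comul (R := S) (i x) :=
      ⟨((Bialgebra.comulAlgHom S N).restrictScalars R).comp i, fun x => rfl⟩
    have hfr : ∀ x, f x ∈ (kapA (S := S) i).range := by
      intro x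
      obtain ⟨z, hz⟩ := c1 x
      exact (AlgHom.mem_range _).mpr ⟨z, by rw [kapA_eq_kap, hz, hf]⟩
    refine ⟨((AlgEquiv.ofInjective (kapA (S := S) i) hκ₂).symm :
      (kapA (S := S) i).range →ₐ[R] D ⊗[R] D).comp (f.codRestrict _ hfr), fun x => ?_⟩
    have h1 := (AlgEquiv.ofInjective (kapA (S := S) i) hκ₂).apply_symm_apply
      (f.codRestrict _ hfr x)
    have h2 := congrArg Subtype.val h1
    rw [AlgEquiv.ofInjective_apply] at h2
    rw [← hf]
    exact h2
  -- counit
  obtain ⟨ε, hε⟩ : ∃ ε : D →ₐ[R] R, ∀ x, algebraMap R S (ε x) = counit (R := S) (i x) := by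
    obtain ⟨f, hf⟩ : ∃ f : D →ₐ[R] S, ∀ x, f x = counit (R := S) (i x) :=
      ⟨((Bialgebra.counitAlgHom S N).restrictScalars R).comp i, fun x => rfl⟩
    have hfr : ∀ x, f x ∈ (Algebra.ofId R S).range := by
      intro x
      obtain ⟨r, hr⟩ := c2 x
      exact (AlgHom.mem_range _).mpr ⟨r, by rw [hf, ← hr]; rfl⟩
    refine ⟨((AlgEquiv.ofInjective (Algebra.ofId R S) hR).symm :
      (Algebra.ofId R S).range →ₐ[R] R).comp (f.codRestrict _ hfr), fun x => ?_⟩
    have h1 := (AlgEquiv.ofInjective (Algebra.ofId R S) hR).apply_symm_apply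
      (f.codRestrict _ hfr x)
    have h2 := congrArg Subtype.val h1
    rw [AlgEquiv.ofInjective_apply] at h2
    rw [← hf]
    exact h2
  -- antipode
  obtain ⟨σ, hσ⟩ : ∃ σ : D →ₐ[R] D, ∀ x, i (σ x) = HopfAlgebra.antipode S (i x) := by
    obtain ⟨f, hf⟩ : ∃ f : D →ₐ[R] N, ∀ x, f x = HopfAlgebra.antipode S (i x) :=
      ⟨((HopfAlgebra.antipodeAlgHom S N).restrictScalars R).comp i, fun x => rfl⟩
    have hfr : ∀ x, f x ∈ i.range := by
      intro x
      obtain ⟨y, hy⟩ := c3 x
      exact (AlgHom.mem_range _).mpr ⟨y, by rw [hf, ← hy]⟩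
    refine ⟨((AlgEquiv.ofInjective i hi).symm : i.range →ₐ[R] D).comp (f.codRestrict _ hfr),
      fun x => ?_⟩
    have h1 := (AlgEquiv.ofInjective i hi).apply_symm_apply (f.codRestrict _ hfr x)
    have h2 := congrArg Subtype.val h1
    rw [AlgEquiv.ofInjective_apply] at h2
    rw [← hf]
    exact h2
  letI instH : HopfAlgebra R D := formHopf i Δ ε σ hi hκ₃ hΔ hε hσ
  have hcomul : ∀ x : D, comul (R := R) x = Δ x := fun x => rfl
  have hcounit : ∀ x : D, counit (R := R) x = ε x := fun x => rfl
  have hbij : Function.Bijective (thetaA (S := S) i) := by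
    have : (thetaA (S := S) i : S ⊗[R] D → N) = LinearMap.liftBaseChange S i.toLinearMap :=
      funext (thetaA_eq i)
    rw [this]
    exact hθ
  obtain ⟨e₀, he₀⟩ : ∃ e₀ : S ⊗[R] D ≃ₐ[S] N, ∀ z, e₀ z = thetaA (S := S) i z :=
    ⟨AlgEquiv.ofBijective (thetaA (S := S) i) hbij, fun z => rfl⟩
  have he₁ : ∀ (s : S) (x : D), e₀ (s ⊗ₜ[R] x) = s • i x := fun s x => by
    rw [he₀, thetaA_tmul]
  have key : ∀ w : D ⊗[R] D, Algebra.TensorProduct.map (e₀ : S ⊗[R] D →ₐ[S] N)
      (e₀ : S ⊗[R] D →ₐ[S] N) (T₀ R S D w) = kapA (S := S) i w := by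
    intro w
    induction w using TensorProduct.induction_on with
    | zero => simp
    | tmul u v =>
      rw [T₀_tmul, Algebra.TensorProduct.map_tmul, kapA_tmul]
      show e₀ ((1 : S) ⊗ₜ[R] u) ⊗ₜ[S] e₀ ((1 : S) ⊗ₜ[R] v) = _
      rw [he₁, he₁, one_smul, one_smul]
    | add x y hx hy => simp only [map_add, hx, hy]
  have h_counit : (Bialgebra.counitAlgHom S N).comp (e₀ : S ⊗[R] D →ₐ[S] N) =
      Bialgebra.counitAlgHom S (S ⊗[R] D) := by
    apply AlgHom.ext
    intro z
    show counit (R := S) (e₀ z) = counit (R := S) z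
    induction z using TensorProduct.induction_on with
    | zero => simp
    | tmul s x =>
      rw [he₁, map_smul, TensorProduct.counit_tmul, CommSemiring.counit_apply, hcounit, ← hε,
        smul_eq_mul, Algebra.smul_def, mul_comm]
    | add x y hx hy => simp only [map_add, hx, hy]
  have h_comul : (Algebra.TensorProduct.map (e₀ : S ⊗[R] D →ₐ[S] N)
      (e₀ : S ⊗[R] D →ₐ[S] N)).comp (Bialgebra.comulAlgHom S (S ⊗[R] D)) =
      (Bialgebra.comulAlgHom S N).comp (e₀ : S ⊗[R] D →ₐ[S] N) := by
    apply AlgHom.ext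
    intro z
    show Algebra.TensorProduct.map (e₀ : S ⊗[R] D →ₐ[S] N) (e₀ : S ⊗[R] D →ₐ[S] N)
      (comul (R := S) z) = comul (R := S) (e₀ z)
    induction z using TensorProduct.induction_on with
    | zero => simp
    | tmul s x =>
      have h1 : s ⊗ₜ[R] x = s • ((1 : S) ⊗ₜ[R] x) := by
        rw [TensorProduct.smul_tmul', smul_eq_mul, mul_one]
      rw [h1, map_smul, map_smul, map_smul, map_smul, comul_one_tmul R S D x, hcomul, key, hΔ,
        he₁, one_smul]
    | add x y hx hy => simp only [map_add, hx, hy]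
  refine ⟨D, inferInstance, instH, BialgEquiv.ofAlgEquiv e₀ h_counit h_comul, fun n => ?_⟩
  constructor
  · rintro ⟨x, hx⟩
    refine ⟨x, ?_⟩
    rw [← hx]
    show i x = e₀ ((1 : S) ⊗ₜ[R] x)
    rw [he₁, one_smul]
  · rintro ⟨d, hd⟩
    refine ⟨d, ?_⟩
    show e₀ ((1 : S) ⊗ₜ[R] d) = n
    rw [he₁, one_smul, hd]

end Exists

end Groth.Agent.Lib.Helper6.TwForm
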