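import Mathlib
import Groth.Agent.Lib.Helper6.TwForm.TW2

/-!
# Twisted forms, part 3: toolbox on group algebras (helper6)

The maps `in1, in2, dg : C[M] → C[M × M]`, the identification `C[M] ⊗ C[M] ≃ C[M × M]`, a
ring-theoretic criterion for group-like elements, and stability of group-like elements under
change of coefficients and under `MonoidAlgebra.lift` of a family of group-like elements.
-/

set_option autoImplicit false
set_option linter.unusedSectionVars false
set_option linter.unusedVariables false
set_option linter.unusedSimpArgs false
set_option linter.style.haveILetI false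
set_option linter.overlappingInstances false
set_option maxHeartbeats 800000
set_option synthInstance.maxHeartbeats 400000

universe u
open TensorProduct Coalgebra

namespace Groth.Agent.Lib.Helper6.TwForm

section Toolbox

variable (C : Type u) [CommRing C] {M : Type u} [CommGroup M]

lemma algHom_ext_single {B : Type u} [Semiring B] [Algebra C B]
    {f f' : MonoidAlgebra C M →ₐ[C] B}
    (h : ∀ m, f (MonoidAlgebra.single m 1) = f' (MonoidAlgebra.single m 1)) : f = f' :=
  (MonoidAlgebra.lift C B M).symm.injective (MonoidHom.ext fun m => by
    rw [MonoidAlgebra.lift_symm_apply, MonoidAlgebra.lift_symm_apply, h])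

variable {C}

lemma mapRingHom_smul {C' : Type u} [CommRing C'] (f : C →+* C') (t : C)
    (y : MonoidAlgebra C M) :
    MonoidAlgebra.mapRingHom M f (t • y) = f t • MonoidAlgebra.mapRingHom M f y := by
  induction y using MonoidAlgebra.induction_linear with
  | zero => simp
  | add x y hx hy => rw [smul_add, map_add, hx, hy, map_add, smul_add]
  | single m c =>
    rw [MonoidAlgebra.smul_single, MonoidAlgebra.mapRingHom_single,
      MonoidAlgebra.mapRingHom_single, MonoidAlgebra.smul_single, smul_eq_mul, smul_eq_mul,
      map_mul]

variable (C)

/-- first inclusion `C[M] → C[M × M]` -/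
noncomputable def in1 : MonoidAlgebra C M →ₐ[C] MonoidAlgebra C (M × M) :=
  MonoidAlgebra.mapDomainAlgHom C C (MonoidHom.inl M M)

/-- second inclusion `C[M] → C[M × M]` -/
noncomputable def in2 : MonoidAlgebra C M →ₐ[C] MonoidAlgebra C (M × M) :=
  MonoidAlgebra.mapDomainAlgHom C C (MonoidHom.inr M M)

/-- diagonal `C[M] → C[M × M]` -/
noncomputable def dg : MonoidAlgebra C M →ₐ[C] MonoidAlgebra C (M × M) :=
  MonoidAlgebra.mapDomainAlgHom C C ((MonoidHom.id M).prod (MonoidHom.id M))

@[simp] lemma in1_single (m : M) (c : C) :
    in1 C (MonoidAlgebra.single m c) = MonoidAlgebra.single (m, 1) c := by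
  simp [in1]

@[simp] lemma in2_single (m : M) (c : C) :
    in2 C (MonoidAlgebra.single m c) = MonoidAlgebra.single (1, m) c := by
  simp [in2]

@[simp] lemma dg_single (m : M) (c : C) :
    dg C (MonoidAlgebra.single m c) = MonoidAlgebra.single (m, m) c := by
  simp [dg]

variable {C}

lemma in1_mapRingHom {C' : Type u} [CommRing C'] (f : C →+* C') (x : MonoidAlgebra C M) :
    in1 C' (MonoidAlgebra.mapRingHom M f x) = MonoidAlgebra.mapRingHom (M × M) f (in1 C x) := by
  induction x using MonoidAlgebra.induction_linear with
  | zero => simp
  | add x y hx hy => simp only [map_add, hx, hy]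
  | single m c => simp

lemma in2_mapRingHom {C' : Type u} [CommRing C'] (f : C →+* C') (x : MonoidAlgebra C M) :
    in2 C' (MonoidAlgebra.mapRingHom M f x) = MonoidAlgebra.mapRingHom (M × M) f (in2 C x) := by
  induction x using MonoidAlgebra.induction_linear with
  | zero => simp
  | add x y hx hy => simp only [map_add, hx, hy]
  | single m c => simp

lemma dg_mapRingHom {C' : Type u} [CommRing C'] (f : C →+* C') (x : MonoidAlgebra C M) :
    dg C' (MonoidAlgebra.mapRingHom M f x) = MonoidAlgebra.mapRingHom (M × M) f (dg C x) := by
  induction x using MonoidAlgebra.induction_linear with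
  | zero => simp
  | add x y hx hy => simp only [map_add, hx, hy]
  | single m c => simp

lemma tensorEquiv_tmul (x y : MonoidAlgebra C M) :
    MonoidAlgebra.tensorEquiv C (x ⊗ₜ[C] y) = in1 C x * in2 C y := by
  induction x using MonoidAlgebra.induction_linear with
  | zero => simp
  | add x x' hx hx' => rw [TensorProduct.add_tmul, map_add, hx, hx', map_add, add_mul]
  | single m c =>
    induction y using MonoidAlgebra.induction_linear with
    | zero => simp
    | add y y' hy hy' => rw [TensorProduct.tmul_add, map_add, hy, hy', map_add, mul_add]
    | single n d =>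
      rw [MonoidAlgebra.tensorEquiv_single_tmul_single, in1_single, in2_single,
        MonoidAlgebra.single_mul_single]
      simp

lemma tensorEquiv_comul (x : MonoidAlgebra C M) :
    MonoidAlgebra.tensorEquiv C (comul (R := C) x) = dg C x := by
  induction x using MonoidAlgebra.induction_linear with
  | zero => simp
  | add x y hx hy => simp only [map_add, hx, hy]
  | single m c =>
    rw [MonoidAlgebra.comul_single, CommSemiring.comul_apply, TensorProduct.map_tmul, dg_single]
    show MonoidAlgebra.tensorEquiv C (MonoidAlgebra.single m 1 ⊗ₜ[C] MonoidAlgebra.single m c) = _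
    rw [MonoidAlgebra.tensorEquiv_single_tmul_single, one_mul]

lemma counit_eq_one_of (x : MonoidAlgebra C M) (hx : IsGroupLikeElem C x) :
    counit (R := C) x = 1 := hx.counit_eq_one

/-- ring-theoretic criterion for group-like elements -/
lemma isGroupLikeElem_iff_dg (x : MonoidAlgebra C M) :
    IsGroupLikeElem C x ↔ counit (R := C) x = 1 ∧ dg C x = in1 C x * in2 C x := by
  rw [isGroupLikeElem_iff, ← tensorEquiv_comul, ← tensorEquiv_tmul,
    (MonoidAlgebra.tensorEquiv C).injective.eq_iff]

lemma counit_mapRingHom {C' : Type u} [CommRing C'] (f : C →+* C') (x : MonoidAlgebra C M) :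
    counit (R := C') (MonoidAlgebra.mapRingHom M f x) = f (counit (R := C) x) := by
  induction x using MonoidAlgebra.induction_linear with
  | zero => simp
  | add x y hx hy => simp only [map_add, hx, hy]
  | single m c =>
    rw [MonoidAlgebra.mapRingHom_single, MonoidAlgebra.counit_single,
      MonoidAlgebra.counit_single, CommSemiring.counit_apply, CommSemiring.counit_apply]

/-- change of coefficients preserves group-like elements -/
lemma isGroupLikeElem_mapRingHom {C' : Type u} [CommRing C'] (f : C →+* C')
    {x : MonoidAlgebra C M} (hx : IsGroupLikeElem C x) :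
    IsGroupLikeElem C' (MonoidAlgebra.mapRingHom M f x) := by
  rw [isGroupLikeElem_iff_dg] at hx ⊢
  refine ⟨by rw [counit_mapRingHom, hx.1, map_one], ?_⟩
  rw [dg_mapRingHom, hx.2, map_mul, in1_mapRingHom, in2_mapRingHom]

/-- a family of group-like elements as a homomorphism to the group of group-like elements -/
noncomputable def toGL {X : Type u} [CommRing X] [Bialgebra C X] (G : M →* X)
    (hG : ∀ m, IsGroupLikeElem C (G m)) : M →* GroupLike C X where
  toFun m := ⟨G m, hG m⟩
  map_one' := GroupLike.val_injective (map_one G)
  map_mul' a b := GroupLike.val_injective (map_mul G a b)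

/-- `MonoidAlgebra.lift` of a family of group-like elements preserves group-like elements -/
lemma isGroupLikeElem_lift {X : Type u} [CommRing X] [Bialgebra C X] (G : M →* X)
    (hG : ∀ m, IsGroupLikeElem C (G m)) {y : MonoidAlgebra C M} (hy : IsGroupLikeElem C y) :
    IsGroupLikeElem C (MonoidAlgebra.lift C X M G y) := by
  have h1 : ∀ z : MonoidAlgebra C M, MonoidAlgebra.lift C X M G z =
      ((MonoidAlgebra.liftGroupLikeBialgHom (R := C) (A := X)).comp
        (MonoidAlgebra.mapDomainBialgHom C (toGL G hG))) z := by
    intro z
    induction z using MonoidAlgebra.induction_linear with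
    | zero => simp
    | add x y hx hy => rw [map_add, map_add, hx, hy]
    | single m c =>
      rw [MonoidAlgebra.lift_single]
      simp [MonoidAlgebra.liftGroupLikeBialgHom, toGL, Algebra.smul_def]
  rw [h1]
  exact hy.map _

end Toolbox

end Groth.Agent.Lib.Helper6.TwForm
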