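import Mathlib
import Groth.Agent.Lib.Helper6.TwForm.TW3

/-!
# Twisted forms, part 4: the descent model for twisted forms of a group algebra (helper6)

`R → S` a ring map, `T = S ⊗[R] S`, `U = S ⊗[R] T`.  A descent datum on `S[M]` is a homomorphism
`g : M →* T[M]` with group-like values, satisfying a counit and a cocycle condition.  The twisted
form is the equaliser of `a = lift g` and `ι : S[M] → T[M]`.
-/

set_option autoImplicit false
set_option linter.unusedSectionVars false
set_option linter.unusedVariables false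
set_option linter.unusedSimpArgs false
set_option linter.style.haveILetI false
set_option linter.overlappingInstances false
set_option maxHeartbeats 800000
set_option synthInstance.maxHeartbeats 400000

universe u
open TensorProduct Coalgebra

namespace Groth.Agent.Lib.Helper6.TwForm

section Iota

variable (R S : Type u) [CommRing R] [CommRing S] [Algebra R S] (M : Type u) [CommGroup M]
variable (C : Type u) [CommRing C] [Algebra R C]

/-- change of coefficients `C[M] → (S ⊗ C)[M]` along `c ↦ 1 ⊗ c` -/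
noncomputable def iotaA : MonoidAlgebra C M →ₐ[R] MonoidAlgebra (S ⊗[R] C) M :=
  MonoidAlgebra.mapAlgHom M (Algebra.TensorProduct.includeRight : C →ₐ[R] S ⊗[R] C)

lemma iotaA_eq (x : MonoidAlgebra C M) : iotaA R S M C x = MonoidAlgebra.mapRingHom M
    ((Algebra.TensorProduct.includeRight : C →ₐ[R] S ⊗[R] C) : C →+* S ⊗[R] C) x := rfl

@[simp] lemma iotaA_single (m : M) (c : C) :
    iotaA R S M C (MonoidAlgebra.single m c) = MonoidAlgebra.single m ((1 : S) ⊗ₜ[R] c) := by
  simp [iotaA]

lemma beta_bijective :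
    Function.Bijective (LinearMap.liftBaseChange S (iotaA R S M C).toLinearMap) := by
  have h : ∀ z, LinearMap.liftBaseChange S (iotaA R S M C).toLinearMap z =
      MonoidAlgebra.rTensorEquivAlgEquiv R S S C z := by
    intro z
    induction z using TensorProduct.induction_on with
    | zero => simp
    | tmul s x =>
      rw [LinearMap.liftBaseChange_tmul, MonoidAlgebra.rTensorEquiv_tmulAlgEquiv]
      rfl
    | add x y hx hy => rw [map_add, map_add, hx, hy]
  have : (LinearMap.liftBaseChange S (iotaA R S M C).toLinearMap :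
      S ⊗[R] MonoidAlgebra C M → MonoidAlgebra (S ⊗[R] C) M) =
      MonoidAlgebra.rTensorEquivAlgEquiv R S S C := funext h
  rw [this]
  exact (MonoidAlgebra.rTensorEquivAlgEquiv R S S C).bijective

end Iota

section Model

variable {R S : Type u} [CommRing R] [CommRing S] [Algebra R S] {M : Type u} [CommGroup M]
variable (g : M →* MonoidAlgebra (S ⊗[R] S) M)

/-- the coaction `S[M] → T[M]` -/
noncomputable def aA : MonoidAlgebra S M →ₐ[S] MonoidAlgebra (S ⊗[R] S) M :=
  MonoidAlgebra.lift S _ M g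

lemma aA_single (m : M) (c : S) : aA g (MonoidAlgebra.single m c) = c • g m :=
  MonoidAlgebra.lift_single g m c

lemma aA_single_one (m : M) : aA g (MonoidAlgebra.single m 1) = g m := by
  rw [aA_single, one_smul]

variable (R S M) in
/-- the map `T[M] → S[M]` induced by multiplication -/
noncomputable def epsA : MonoidAlgebra (S ⊗[R] S) M →ₐ[S] MonoidAlgebra S M :=
  MonoidAlgebra.mapAlgHom M (Algebra.TensorProduct.lmul'' R)

lemma epsA_eq (x : MonoidAlgebra (S ⊗[R] S) M) : epsA R S M x = MonoidAlgebra.mapRingHom M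
    ((Algebra.TensorProduct.lmul'' R : S ⊗[R] S →ₐ[S] S) : S ⊗[R] S →+* S) x := rfl

variable (R S) in
/-- `s ⊗ c ↦ s ⊗ (1 ⊗ c)` -/
noncomputable def d1 : S ⊗[R] S →ₐ[S] S ⊗[R] (S ⊗[R] S) :=
  Algebra.TensorProduct.map (AlgHom.id S S)
    (Algebra.TensorProduct.includeRight : S →ₐ[R] S ⊗[R] S)

variable (R S) in
/-- `s ⊗ c ↦ s ⊗ (c ⊗ 1)` -/
noncomputable def d2 : S ⊗[R] S →ₐ[S] S ⊗[R] (S ⊗[R] S) :=
  Algebra.TensorProduct.map (AlgHom.id S S)
    (Algebra.TensorProduct.includeLeft : S →ₐ[R] S ⊗[R] S)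

@[simp] lemma d1_tmul (s c : S) : d1 R S (s ⊗ₜ[R] c) = s ⊗ₜ[R] ((1 : S) ⊗ₜ[R] c) := rfl

@[simp] lemma d2_tmul (s c : S) : d2 R S (s ⊗ₜ[R] c) = s ⊗ₜ[R] (c ⊗ₜ[R] (1 : S)) := rfl

variable (R S M) in
/-- `T[M] → U[M]` induced by `d1` -/
noncomputable def del1 : MonoidAlgebra (S ⊗[R] S) M →ₐ[S]
    MonoidAlgebra (S ⊗[R] (S ⊗[R] S)) M :=
  MonoidAlgebra.mapAlgHom M (d1 R S)

lemma del1_eq (x : MonoidAlgebra (S ⊗[R] S) M) : del1 R S M x = MonoidAlgebra.mapRingHom M
    ((d1 R S : S ⊗[R] S →ₐ[S] S ⊗[R] (S ⊗[R] S)) : S ⊗[R] S →+* S ⊗[R] (S ⊗[R] S)) x := rfl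

/-- the family `ι₁ ∘ g` -/
noncomputable def G1 : M →* MonoidAlgebra (S ⊗[R] (S ⊗[R] S)) M :=
  ((iotaA R S M (S ⊗[R] S)).toRingHom : MonoidAlgebra (S ⊗[R] S) M →*
    MonoidAlgebra (S ⊗[R] (S ⊗[R] S)) M).comp g

lemma G1_apply (m : M) : G1 g m = iotaA R S M (S ⊗[R] S) (g m) := rfl

/-- the base change of the coaction, `T[M] → U[M]` -/
noncomputable def a1 : MonoidAlgebra (S ⊗[R] S) M →ₐ[S]
    MonoidAlgebra (S ⊗[R] (S ⊗[R] S)) M :=
  ((MonoidAlgebra.lift (S ⊗[R] (S ⊗[R] S)) (MonoidAlgebra (S ⊗[R] (S ⊗[R] S)) M) M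
    (G1 g)).restrictScalars S).comp (MonoidAlgebra.mapAlgHom M (d2 R S))

lemma a1_single (m : M) (t : S ⊗[R] S) :
    a1 g (MonoidAlgebra.single m t) = d2 R S t • iotaA R S M (S ⊗[R] S) (g m) := by
  show MonoidAlgebra.lift (S ⊗[R] (S ⊗[R] S)) (MonoidAlgebra (S ⊗[R] (S ⊗[R] S)) M) M (G1 g)
    (MonoidAlgebra.mapAlgHom M (d2 R S) (MonoidAlgebra.single m t)) = _
  rw [show MonoidAlgebra.mapAlgHom M (d2 R S) (MonoidAlgebra.single m t) =
    MonoidAlgebra.single m (d2 R S t) by simp, MonoidAlgebra.lift_single, G1_apply]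

lemma epsA_iota (n : MonoidAlgebra S M) : epsA R S M (iotaA R S M S n) = n := by
  induction n using MonoidAlgebra.induction_linear with
  | zero => simp
  | add x y hx hy => rw [map_add, map_add, hx, hy]
  | single m c =>
    rw [iotaA_single, epsA_eq, MonoidAlgebra.mapRingHom_single]
    simp [Algebra.TensorProduct.lmul'']

lemma smul_eq_tmul_smul (c : S) (y : MonoidAlgebra (S ⊗[R] S) M) :
    c • y = (c ⊗ₜ[R] (1 : S)) • y := by
  rw [← algebraMap_smul (S ⊗[R] S) c y, Algebra.TensorProduct.algebraMap_apply]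
  rfl

lemma a1_iota (n : MonoidAlgebra S M) :
    a1 g (iotaA R S M S n) = iotaA R S M (S ⊗[R] S) (aA g n) := by
  induction n using MonoidAlgebra.induction_linear with
  | zero => simp
  | add x y hx hy => simp only [map_add, hx, hy]
  | single m c =>
    have h1 : iotaA R S M (S ⊗[R] S) ((c ⊗ₜ[R] (1 : S)) • g m) =
        ((1 : S) ⊗ₜ[R] (c ⊗ₜ[R] (1 : S))) • iotaA R S M (S ⊗[R] S) (g m) := by
      rw [iotaA_eq, mapRingHom_smul]
      rfl
    rw [iotaA_single, a1_single, aA_single, smul_eq_tmul_smul, h1]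
    rfl

lemma del1_iota (n : MonoidAlgebra S M) :
    del1 R S M (iotaA R S M S n) = iotaA R S M (S ⊗[R] S) (iotaA R S M S n) := by
  induction n using MonoidAlgebra.induction_linear with
  | zero => simp
  | add x y hx hy => simp only [map_add, hx, hy]
  | single m c =>
    rw [iotaA_single, iotaA_single, del1_eq, MonoidAlgebra.mapRingHom_single]
    rfl

lemma epsA_aA (hCU : ∀ m, epsA R S M (g m) = MonoidAlgebra.single m 1)
    (n : MonoidAlgebra S M) : epsA R S M (aA g n) = n := by
  have h : (epsA R S M).comp (aA g) = AlgHom.id S (MonoidAlgebra S M) := by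
    apply algHom_ext_single
    intro m
    show epsA R S M (aA g (MonoidAlgebra.single m 1)) = MonoidAlgebra.single m 1
    rw [aA_single_one, hCU]
  exact congrArg (fun f : MonoidAlgebra S M →ₐ[S] MonoidAlgebra S M => f n) h

lemma a1_aA (hCC : ∀ m, a1 g (g m) = del1 R S M (g m)) (n : MonoidAlgebra S M) :
    a1 g (aA g n) = del1 R S M (aA g n) := by
  have h : (a1 g).comp (aA g) = (del1 R S M).comp (aA g) := by
    apply algHom_ext_single
    intro m
    show a1 g (aA g (MonoidAlgebra.single m 1)) = del1 R S M (aA g (MonoidAlgebra.single m 1))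
    rw [aA_single_one, hCC]
  exact congrArg (fun f : MonoidAlgebra S M →ₐ[S] MonoidAlgebra (S ⊗[R] (S ⊗[R] S)) M => f n) h

/-- the twisted form attached to the datum `g` -/
noncomputable def Dsub : Subalgebra R (MonoidAlgebra S M) :=
  AlgHom.equalizer ((aA g).restrictScalars R) (iotaA R S M S)

lemma mem_Dsub (n : MonoidAlgebra S M) : n ∈ Dsub g ↔ aA g n = iotaA R S M S n :=
  AlgHom.mem_equalizer _ _ n

theorem form_injective_model [Module.Flat R S] :
    Function.Injective (LinearMap.liftBaseChange S (Dsub g).val.toLinearMap) := by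
  apply form_injective' ((aA g).restrictScalars R).toLinearMap (iotaA R S M S).toLinearMap
    (fun s n => map_smul (aA g) s n) (beta_bijective R S M S).1 (Dsub g).val.toLinearMap
    Subtype.val_injective
  intro x
  exact (mem_Dsub g x.1).mp x.2

theorem form_surjective_model [Module.Flat R S]
    (hCU : ∀ m, epsA R S M (g m) = MonoidAlgebra.single m 1)
    (hCC : ∀ m, a1 g (g m) = del1 R S M (g m)) :
    Function.Surjective (LinearMap.liftBaseChange S (Dsub g).val.toLinearMap) := by
  apply form_surjective' ((aA g).restrictScalars R).toLinearMap (iotaA R S M S).toLinearMap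
    (beta_bijective R S M S).2 (epsA R S M).toLinearMap.toAddMonoidHom
    (fun s n => by
      show epsA R S M (s • iotaA R S M S n) = s • n
      rw [map_smul, epsA_iota])
    (fun n => epsA_aA g hCU n)
    (a1 g).toLinearMap.toAddMonoidHom (del1 R S M).toLinearMap.toAddMonoidHom
    (iotaA R S M (S ⊗[R] S)).toLinearMap
    (fun s n => by
      show a1 g (s • iotaA R S M S n) = s • iotaA R S M (S ⊗[R] S) (aA g n)
      rw [map_smul, a1_iota])
    (fun s n => by
      show del1 R S M (s • iotaA R S M S n) =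
        s • iotaA R S M (S ⊗[R] S) (iotaA R S M S n)
      rw [map_smul, del1_iota])
    (beta_bijective R S M (S ⊗[R] S)).1
    (fun n => a1_aA g hCC n)
    (Dsub g).val.toLinearMap
  · intro x
    exact (mem_Dsub g x.1).mp x.2
  · intro n hn
    exact ⟨⟨n, (mem_Dsub g n).mpr hn⟩, rfl⟩

end Model

end Groth.Agent.Lib.Helper6.TwForm
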