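import Mathlib
import Groth.Agent.Lib.Helper6.TwForm.TW4

/-!
# Twisted forms, part 5: the twisted form attached to a descent datum is a Hopf algebra (helper6)
-/

set_option autoImplicit false
set_option linter.unusedSectionVars false
set_option linter.unusedVariables false
set_option linter.unusedSimpArgs false
set_option linter.style.haveILetI false
set_option linter.overlappingInstances false
set_option maxHeartbeats 800000
set_option synthInstance.maxHeartbeats 400000

universe u
open TensorProduct Coalgebra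

namespace Groth.Agent.Lib.Helper6.TwForm

section C23

variable {R S : Type u} [CommRing R] [CommRing S] [Algebra R S] {M : Type u} [CommGroup M]
variable (g : M →* MonoidAlgebra (S ⊗[R] S) M)

lemma counitT_aA (hGL : ∀ m, IsGroupLikeElem (S ⊗[R] S) (g m)) (n : MonoidAlgebra S M) :
    counit (R := S ⊗[R] S) (aA g n) = algebraMap S (S ⊗[R] S) (counit (R := S) n) := by
  have h : ((Bialgebra.counitAlgHom (S ⊗[R] S)
      (MonoidAlgebra (S ⊗[R] S) M)).restrictScalars S).comp (aA g) =
      (Algebra.ofId S (S ⊗[R] S)).comp (Bialgebra.counitAlgHom S (MonoidAlgebra S M)) := by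
    apply algHom_ext_single
    intro m
    show counit (R := S ⊗[R] S) (aA g (MonoidAlgebra.single m 1)) =
      algebraMap S (S ⊗[R] S) (counit (R := S) (MonoidAlgebra.single m (1 : S)))
    rw [aA_single_one, (hGL m).counit_eq_one, MonoidAlgebra.counit_single,
      CommSemiring.counit_apply, map_one]
  exact congrArg (fun f : MonoidAlgebra S M →ₐ[S] S ⊗[R] S => f n) h

lemma counit_iota (n : MonoidAlgebra S M) :
    counit (R := S ⊗[R] S) (iotaA R S M S n) = (1 : S) ⊗ₜ[R] (counit (R := S) n) := by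
  rw [iotaA_eq, counit_mapRingHom]
  rfl

lemma c2_model [Module.FaithfullyFlat R S] (hGL : ∀ m, IsGroupLikeElem (S ⊗[R] S) (g m))
    (x : Dsub g) :
    ∃ r : R, algebraMap R S r = counit (R := S) (x : MonoidAlgebra S M) := by
  have h1 := counitT_aA g hGL x.1
  rw [(mem_Dsub g x.1).mp x.2, counit_iota, Algebra.TensorProduct.algebraMap_apply] at h1
  have h2 : Algebra.TensorProduct.includeLeftSubRight R S
      (counit (R := S) (x : MonoidAlgebra S M)) = 0 := by
    rw [Algebra.TensorProduct.includeLeftSubRight_apply, sub_eq_zero]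
    exact h1.symm
  obtain ⟨r, hr⟩ := (Algebra.IsEffective.of_faithfullyFlat R S _).mp h2
  exact ⟨r, hr⟩

lemma aA_antipode (hGL : ∀ m, IsGroupLikeElem (S ⊗[R] S) (g m)) (n : MonoidAlgebra S M) :
    aA g (HopfAlgebra.antipode S n) = HopfAlgebra.antipode (S ⊗[R] S) (aA g n) := by
  have h : (aA g).comp (HopfAlgebra.antipodeAlgHom S (MonoidAlgebra S M)) =
      ((HopfAlgebra.antipodeAlgHom (S ⊗[R] S)
        (MonoidAlgebra (S ⊗[R] S) M)).restrictScalars S).comp (aA g) := by
    apply algHom_ext_single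
    intro m
    show aA g (HopfAlgebra.antipode S (MonoidAlgebra.single m (1 : S))) =
      HopfAlgebra.antipode (S ⊗[R] S) (aA g (MonoidAlgebra.single m 1))
    have h1 : HopfAlgebra.antipode S (MonoidAlgebra.single m (1 : S) : MonoidAlgebra S M) =
        MonoidAlgebra.single m⁻¹ 1 := by simp
    rw [h1, aA_single_one, aA_single_one]
    have hmul : g m * g m⁻¹ = 1 := by rw [← map_mul, mul_inv_cancel, map_one]
    exact (left_inv_eq_right_inv (hGL m).antipode_mul_cancel hmul).symm
  exact congrArg (fun f : MonoidAlgebra S M →ₐ[S] MonoidAlgebra (S ⊗[R] S) M => f n) h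

lemma iota_antipode (n : MonoidAlgebra S M) :
    iotaA R S M S (HopfAlgebra.antipode S n) =
      HopfAlgebra.antipode (S ⊗[R] S) (iotaA R S M S n) := by
  induction n using MonoidAlgebra.induction_linear with
  | zero => simp
  | add x y hx hy => simp only [map_add, hx, hy]
  | single m c => simp [iotaA_single]

lemma c3_model (hGL : ∀ m, IsGroupLikeElem (S ⊗[R] S) (g m)) (x : Dsub g) :
    ∃ y : Dsub g, (y : MonoidAlgebra S M) = HopfAlgebra.antipode S (x : MonoidAlgebra S M) := by
  refine ⟨⟨HopfAlgebra.antipode S (x : MonoidAlgebra S M), ?_⟩, rfl⟩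
  rw [mem_Dsub, aA_antipode g hGL, (mem_Dsub g x.1).mp x.2, iota_antipode]

end C23

section UniqueAlg

variable {R S : Type u} [CommRing R] [CommRing S] [Algebra R S]
variable {D D' P : Type u} [CommRing D] [Algebra R D] [CommRing D'] [Algebra R D']
  [CommRing P] [Algebra R P] [Algebra S P] [IsScalarTower R S P]

/-- `form_unique'` for algebra maps -/
theorem form_unique_alg [Module.FaithfullyFlat R S] (j : D →ₐ[R] D') (i : D →ₐ[R] P)
    (i' : D' →ₐ[R] P) (hij : ∀ x, i' (j x) = i x)
    (hE : Function.Surjective (LinearMap.liftBaseChange S i.toLinearMap))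
    (hE' : Function.Injective (LinearMap.liftBaseChange S i'.toLinearMap)) :
    Function.Surjective j :=
  form_unique' (S := S) j.toLinearMap i.toLinearMap i'.toLinearMap hij hE hE'

end UniqueAlg

section C1

variable {R S : Type u} [CommRing R] [CommRing S] [Algebra R S] {M : Type u} [CommGroup M]
variable (g : M →* MonoidAlgebra (S ⊗[R] S) M)

/-- the product datum on `M × M` -/
noncomputable def g2 : M × M →* MonoidAlgebra (S ⊗[R] S) (M × M) :=
  MonoidHom.coprod
    (((in1 (S ⊗[R] S) (M := M)).toRingHom : MonoidAlgebra (S ⊗[R] S) M →*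
      MonoidAlgebra (S ⊗[R] S) (M × M)).comp g)
    (((in2 (S ⊗[R] S) (M := M)).toRingHom : MonoidAlgebra (S ⊗[R] S) M →*
      MonoidAlgebra (S ⊗[R] S) (M × M)).comp g)

lemma g2_apply (p : M × M) :
    g2 g p = in1 (S ⊗[R] S) (g p.1) * in2 (S ⊗[R] S) (g p.2) :=
  MonoidHom.coprod_apply _ _ p

lemma aA_in1 (n : MonoidAlgebra S M) :
    aA (g2 g) (in1 S n) = in1 (S ⊗[R] S) (aA g n) := by
  have h : (aA (g2 g)).comp (in1 S) = ((in1 (S ⊗[R] S)).restrictScalars S).comp (aA g) := by
    apply algHom_ext_single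
    intro m
    show aA (g2 g) (in1 S (MonoidAlgebra.single m 1)) =
      in1 (S ⊗[R] S) (aA g (MonoidAlgebra.single m 1))
    rw [in1_single, aA_single_one, aA_single_one, g2_apply]
    show in1 (S ⊗[R] S) (g m) * in2 (S ⊗[R] S) (g 1) = _
    rw [map_one, map_one, mul_one]
  exact congrArg (fun f : MonoidAlgebra S M →ₐ[S] MonoidAlgebra (S ⊗[R] S) (M × M) => f n) h

lemma aA_in2 (n : MonoidAlgebra S M) :
    aA (g2 g) (in2 S n) = in2 (S ⊗[R] S) (aA g n) := by
  have h : (aA (g2 g)).comp (in2 S) = ((in2 (S ⊗[R] S)).restrictScalars S).comp (aA g) := by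
    apply algHom_ext_single
    intro m
    show aA (g2 g) (in2 S (MonoidAlgebra.single m 1)) =
      in2 (S ⊗[R] S) (aA g (MonoidAlgebra.single m 1))
    rw [in2_single, aA_single_one, aA_single_one, g2_apply]
    show in1 (S ⊗[R] S) (g 1) * in2 (S ⊗[R] S) (g m) = _
    rw [map_one, map_one, one_mul]
  exact congrArg (fun f : MonoidAlgebra S M →ₐ[S] MonoidAlgebra (S ⊗[R] S) (M × M) => f n) h

lemma aA_dg (hGL : ∀ m, IsGroupLikeElem (S ⊗[R] S) (g m)) (n : MonoidAlgebra S M) :
    aA (g2 g) (dg S n) = dg (S ⊗[R] S) (aA g n) := by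
  have h : (aA (g2 g)).comp (dg S) = ((dg (S ⊗[R] S)).restrictScalars S).comp (aA g) := by
    apply algHom_ext_single
    intro m
    show aA (g2 g) (dg S (MonoidAlgebra.single m 1)) =
      dg (S ⊗[R] S) (aA g (MonoidAlgebra.single m 1))
    rw [dg_single, aA_single_one, aA_single_one, g2_apply]
    exact ((isGroupLikeElem_iff_dg _).mp (hGL m)).2.symm
  exact congrArg (fun f : MonoidAlgebra S M →ₐ[S] MonoidAlgebra (S ⊗[R] S) (M × M) => f n) h

lemma iota_in1 (n : MonoidAlgebra S M) :
    iotaA R S (M × M) S (in1 S n) = in1 (S ⊗[R] S) (iotaA R S M S n) := by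
  rw [iotaA_eq, iotaA_eq, in1_mapRingHom]

lemma iota_in2 (n : MonoidAlgebra S M) :
    iotaA R S (M × M) S (in2 S n) = in2 (S ⊗[R] S) (iotaA R S M S n) := by
  rw [iotaA_eq, iotaA_eq, in2_mapRingHom]

lemma iota_dg (n : MonoidAlgebra S M) :
    iotaA R S (M × M) S (dg S n) = dg (S ⊗[R] S) (iotaA R S M S n) := by
  rw [iotaA_eq, iotaA_eq, dg_mapRingHom]

lemma in1_mem {x : MonoidAlgebra S M} (hx : x ∈ Dsub g) : in1 S x ∈ Dsub (g2 g) := by
  rw [mem_Dsub] at hx ⊢
  rw [aA_in1, hx, iota_in1]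

lemma in2_mem {x : MonoidAlgebra S M} (hx : x ∈ Dsub g) : in2 S x ∈ Dsub (g2 g) := by
  rw [mem_Dsub] at hx ⊢
  rw [aA_in2, hx, iota_in2]

lemma dg_mem (hGL : ∀ m, IsGroupLikeElem (S ⊗[R] S) (g m)) {x : MonoidAlgebra S M}
    (hx : x ∈ Dsub g) : dg S x ∈ Dsub (g2 g) := by
  rw [mem_Dsub] at hx ⊢
  rw [aA_dg g hGL, hx, iota_dg]

/-- `x ⊗ y ↦ in1 x * in2 y` on the twisted form -/
noncomputable def kapM : Dsub g ⊗[R] Dsub g →ₐ[R] MonoidAlgebra S (M × M) :=
  Algebra.TensorProduct.lift (((in1 S).restrictScalars R).comp (Dsub g).val)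
    (((in2 S).restrictScalars R).comp (Dsub g).val) (fun _ _ => Commute.all _ _)

lemma kapM_tmul (x y : Dsub g) :
    kapM g (x ⊗ₜ[R] y) = in1 S (x : MonoidAlgebra S M) * in2 S (y : MonoidAlgebra S M) := by
  rw [kapM, Algebra.TensorProduct.lift_tmul]
  rfl

lemma kapM_mem (z : Dsub g ⊗[R] Dsub g) : kapM g z ∈ Dsub (g2 g) := by
  induction z using TensorProduct.induction_on with
  | zero => rw [map_zero]; exact zero_mem _
  | tmul x y =>
    rw [kapM_tmul]
    exact mul_mem (in1_mem g x.2) (in2_mem g y.2)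
  | add x y hx hy => rw [map_add]; exact add_mem hx hy

lemma kapM_eq (z : Dsub g ⊗[R] Dsub g) :
    kapM g z = MonoidAlgebra.tensorEquiv S
      (kap S (Dsub g).val.toLinearMap (Dsub g).val.toLinearMap z) := by
  induction z using TensorProduct.induction_on with
  | zero => simp
  | tmul x y =>
    rw [kapM_tmul, kap_tmul, tensorEquiv_tmul]
    rfl
  | add x y hx hy => rw [map_add, map_add, hx, hy, map_add]

lemma kapM_lift (w : S ⊗[R] (Dsub g ⊗[R] Dsub g)) :
    LinearMap.liftBaseChange S (kapM g).toLinearMap w =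
      MonoidAlgebra.tensorEquiv S (LinearMap.liftBaseChange S
        (kap S (Dsub g).val.toLinearMap (Dsub g).val.toLinearMap) w) := by
  induction w using TensorProduct.induction_on with
  | zero => simp
  | tmul s z =>
    rw [LinearMap.liftBaseChange_tmul, LinearMap.liftBaseChange_tmul, map_smul]
    show s • kapM g z = _
    rw [kapM_eq]
  | add x y hx hy => rw [map_add, map_add, hx, hy, map_add]

lemma kapM_surjective [Module.FaithfullyFlat R S]
    (hCU : ∀ m, epsA R S M (g m) = MonoidAlgebra.single m 1)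
    (hCC : ∀ m, a1 g (g m) = del1 R S M (g m)) :
    Function.Surjective (LinearMap.liftBaseChange S (kapM g).toLinearMap) := by
  have hθ : Function.Bijective (LinearMap.liftBaseChange S (Dsub g).val.toLinearMap) :=
    ⟨form_injective_model g, form_surjective_model g hCU hCC⟩
  have hbij := formTensor_bijective (S := S) (Dsub g).val.toLinearMap (Dsub g).val.toLinearMap
    hθ hθ
  intro n
  obtain ⟨w, hw⟩ := hbij.2 ((MonoidAlgebra.tensorEquiv S).symm n)
  exact ⟨w, by rw [kapM_lift, hw, LinearEquiv.apply_symm_apply]⟩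

/-- `kapM` with values in the twisted form on `M × M` -/
noncomputable def kapJ : Dsub g ⊗[R] Dsub g →ₐ[R] Dsub (g2 g) :=
  (kapM g).codRestrict (Dsub (g2 g)) (kapM_mem g)

lemma kapJ_val (z : Dsub g ⊗[R] Dsub g) :
    ((kapJ g z : Dsub (g2 g)) : MonoidAlgebra S (M × M)) = kapM g z := rfl

lemma kapJ_surjective [Module.FaithfullyFlat R S]
    (hCU : ∀ m, epsA R S M (g m) = MonoidAlgebra.single m 1)
    (hCC : ∀ m, a1 g (g m) = del1 R S M (g m)) : Function.Surjective (kapJ g) :=
by
  have h1 := kapM_surjective g hCU hCC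
  have h2 := form_injective_model (R := R) (S := S) (g2 g)
  have h3 : ∀ z, (Dsub (g2 g)).val (kapJ g z) = kapM g z := fun z => rfl
  exact @form_unique_alg R S _ _ _ (Dsub g ⊗[R] Dsub g) (Dsub (g2 g)) (MonoidAlgebra S (M × M))
    _ _ _ _ _ _ _ _ _ (kapJ g) (kapM g) (Dsub (g2 g)).val h3 h1 h2

theorem c1_model [Module.FaithfullyFlat R S] (hGL : ∀ m, IsGroupLikeElem (S ⊗[R] S) (g m))
    (hCU : ∀ m, epsA R S M (g m) = MonoidAlgebra.single m 1)
    (hCC : ∀ m, a1 g (g m) = del1 R S M (g m)) (x : Dsub g) :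
    ∃ z : Dsub g ⊗[R] Dsub g,
      kap S (Dsub g).val.toLinearMap (Dsub g).val.toLinearMap z =
        comul (R := S) (x : MonoidAlgebra S M) := by
  obtain ⟨z, hz⟩ := kapJ_surjective g hCU hCC ⟨dg S (x : MonoidAlgebra S M), dg_mem g hGL x.2⟩
  refine ⟨z, ?_⟩
  apply (MonoidAlgebra.tensorEquiv S).injective
  rw [← kapM_eq, tensorEquiv_comul, ← kapJ_val, hz]

end C1

section Main

variable {R S : Type u} [CommRing R] [CommRing S] [Algebra R S] {M : Type u} [CommGroup M]

/-- Effectivity of descent for twisted forms of a group algebra. -/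
theorem exists_form_of_datum [Module.FaithfullyFlat R S]
    (g : M →* MonoidAlgebra (S ⊗[R] S) M)
    (hGL : ∀ m, IsGroupLikeElem (S ⊗[R] S) (g m))
    (hCU : ∀ m, epsA R S M (g m) = MonoidAlgebra.single m 1)
    (hCC : ∀ m, a1 g (g m) = del1 R S M (g m)) :
    ∃ (A : Type u) (_ : CommRing A) (_ : HopfAlgebra R A)
      (e : S ⊗[R] A ≃ₐc[S] MonoidAlgebra S M),
      ∀ n : MonoidAlgebra S M, (∃ x : A, e ((1 : S) ⊗ₜ[R] x) = n) ↔
        aA g n = iotaA R S M S n := by
  obtain ⟨A, i1, i2, e, he⟩ := exists_hopf_of_form (S := S) (Dsub g).val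
    ⟨form_injective_model g, form_surjective_model g hCU hCC⟩
    (c1_model g hGL hCU hCC) (c2_model g hGL) (c3_model g hGL)
  refine ⟨A, i1, i2, e, fun n => ?_⟩
  rw [he n, ← mem_Dsub]
  constructor
  · rintro ⟨d, rfl⟩
    exact d.2
  · intro hn
    exact ⟨⟨n, hn⟩, rfl⟩

end Main

end Groth.Agent.Lib.Helper6.TwForm
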