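import Mathlib
import Groth.Prelude.Def_SGA3b
import Groth.Agent.Lib.Helper6.TwForm.TW5
import Groth.Agent.Lib.Helper6.QIso.QI16

/-!
# Twisted forms, part 6: the descent datum of a chart; uniqueness of forms (helper6)
-/

set_option autoImplicit false
set_option linter.unusedSectionVars false
set_option linter.unusedVariables false
set_option linter.unusedSimpArgs false
set_option linter.style.haveILetI false
set_option linter.overlappingInstances false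
set_option maxHeartbeats 800000
set_option synthInstance.maxHeartbeats 400000

universe u
open TensorProduct Coalgebra
open Groth.Agent.Lib.Helper6.MultType

namespace Groth.Agent.Lib.Helper6.TwForm

section Datum

variable {R S : Type u} [CommRing R] [CommRing S] [Algebra R S] {M : Type u} [CommGroup M]
variable {A : Type u} [CommRing A] [HopfAlgebra R A]
variable (ψ : S ⊗[R] A ≃ₐc[S] MonoidAlgebra S M)

lemma algHom_ext_one_tmul {X : Type u} [CommRing X] [Algebra S X] {f f' : S ⊗[R] A →ₐ[S] X}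
    (h : ∀ x : A, f ((1 : S) ⊗ₜ[R] x) = f' ((1 : S) ⊗ₜ[R] x)) : f = f' := by
  apply AlgHom.ext
  intro z
  induction z using TensorProduct.induction_on with
  | zero => simp
  | tmul s x =>
    have h1 : s ⊗ₜ[R] x = s • ((1 : S) ⊗ₜ[R] x) := by
      rw [TensorProduct.smul_tmul', smul_eq_mul, mul_one]
    rw [h1, map_smul, map_smul, h]
  | add x y hx hy => rw [map_add, map_add, hx, hy]

/-- `x ↦ ψ (1 ⊗ x)` -/
noncomputable def jA : A →ₐ[R] MonoidAlgebra S M :=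
  (((ψ : S ⊗[R] A ≃ₐ[S] MonoidAlgebra S M) : S ⊗[R] A →ₐ[S] MonoidAlgebra S M).restrictScalars
    R).comp Algebra.TensorProduct.includeRight

lemma jA_apply (x : A) : jA ψ x = ψ ((1 : S) ⊗ₜ[R] x) := rfl

/-- `s ⊗ x ↦ s • ι (ψ (1 ⊗ x))` -/
noncomputable def PhiA : S ⊗[R] A →ₐ[S] MonoidAlgebra (S ⊗[R] S) M :=
  Algebra.TensorProduct.lift (Algebra.ofId S (MonoidAlgebra (S ⊗[R] S) M))
    ((iotaA R S M S).comp (jA ψ)) (fun _ _ => Commute.all _ _)

lemma PhiA_tmul (s : S) (x : A) :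
    PhiA ψ (s ⊗ₜ[R] x) = s • iotaA R S M S (ψ ((1 : S) ⊗ₜ[R] x)) := by
  rw [PhiA, Algebra.TensorProduct.lift_tmul, Algebra.ofId_apply, Algebra.smul_def]
  rfl

lemma PhiA_one_tmul (x : A) :
    PhiA ψ ((1 : S) ⊗ₜ[R] x) = iotaA R S M S (ψ ((1 : S) ⊗ₜ[R] x)) := by
  rw [PhiA_tmul, one_smul]

/-- the inverse chart as an algebra map -/
noncomputable def psiSymm : MonoidAlgebra S M →ₐ[S] S ⊗[R] A :=
  ((ψ.symm : MonoidAlgebra S M ≃ₐ[S] S ⊗[R] A) : MonoidAlgebra S M →ₐ[S] S ⊗[R] A)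

lemma psiSymm_apply (n : MonoidAlgebra S M) : psiSymm ψ n = ψ.symm n := rfl

/-- the descent datum of a chart -/
noncomputable def gOf : M →* MonoidAlgebra (S ⊗[R] S) M :=
  (MonoidAlgebra.lift S _ M).symm ((PhiA ψ).comp (psiSymm ψ))

lemma gOf_apply (m : M) : gOf ψ m = PhiA ψ (ψ.symm (MonoidAlgebra.single m 1)) := by
  rw [gOf, MonoidAlgebra.lift_symm_apply]
  rfl

lemma aA_gOf (n : MonoidAlgebra S M) : aA (gOf ψ) n = PhiA ψ (ψ.symm n) := by
  have h : aA (gOf ψ) = (PhiA ψ).comp (psiSymm ψ) := by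
    rw [aA, gOf, Equiv.apply_symm_apply]
  rw [h]
  rfl

lemma aA_jA (x : A) : aA (gOf ψ) (jA ψ x) = iotaA R S M S (jA ψ x) := by
  rw [aA_gOf, jA_apply, BialgEquiv.symm_apply_apply, PhiA_one_tmul]

lemma epsA_PhiA (z : S ⊗[R] A) : epsA R S M (PhiA ψ z) = ψ z := by
  have h : (epsA R S M).comp (PhiA ψ) =
      ((ψ : S ⊗[R] A ≃ₐ[S] MonoidAlgebra S M) : S ⊗[R] A →ₐ[S] MonoidAlgebra S M) := by
    apply algHom_ext_one_tmul
    intro x
    show epsA R S M (PhiA ψ ((1 : S) ⊗ₜ[R] x)) = ψ ((1 : S) ⊗ₜ[R] x)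
    rw [PhiA_one_tmul, epsA_iota]
  exact congrArg (fun f : S ⊗[R] A →ₐ[S] MonoidAlgebra S M => f z) h

lemma gOf_CU (m : M) : epsA R S M (gOf ψ m) = MonoidAlgebra.single m 1 := by
  rw [gOf_apply, epsA_PhiA, BialgEquiv.apply_symm_apply]

lemma a1_PhiA (z : S ⊗[R] A) :
    a1 (gOf ψ) (PhiA ψ z) = del1 R S M (PhiA ψ z) := by
  have h : (a1 (gOf ψ)).comp (PhiA ψ) = (del1 R S M).comp (PhiA ψ) := by
    refine algHom_ext_one_tmul (X := MonoidAlgebra (S ⊗[R] (S ⊗[R] S)) M) ?_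
    intro x
    show a1 (gOf ψ) (PhiA ψ ((1 : S) ⊗ₜ[R] x)) = del1 R S M (PhiA ψ ((1 : S) ⊗ₜ[R] x))
    rw [PhiA_one_tmul, a1_iota, del1_iota, ← jA_apply, aA_jA]
  exact congrArg (fun f : S ⊗[R] A →ₐ[S] MonoidAlgebra (S ⊗[R] (S ⊗[R] S)) M => f z) h

lemma gOf_CC (m : M) : a1 (gOf ψ) (gOf ψ m) = del1 R S M (gOf ψ m) := by
  rw [gOf_apply, a1_PhiA]

lemma counit_PhiA (z : S ⊗[R] A) :
    counit (R := S ⊗[R] S) (PhiA ψ z) = algebraMap S (S ⊗[R] S) (counit (R := S) z) := by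
  have h : ((Bialgebra.counitAlgHom (S ⊗[R] S)
      (MonoidAlgebra (S ⊗[R] S) M)).restrictScalars S).comp (PhiA ψ) =
      (Algebra.ofId S (S ⊗[R] S)).comp (Bialgebra.counitAlgHom S (S ⊗[R] A)) := by
    apply algHom_ext_one_tmul
    intro x
    show counit (R := S ⊗[R] S) (PhiA ψ ((1 : S) ⊗ₜ[R] x)) =
      algebraMap S (S ⊗[R] S) (counit (R := S) ((1 : S) ⊗ₜ[R] x))
    rw [PhiA_one_tmul, counit_iota, CoalgHomClass.counit_comp_apply, counit_one_tmul,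
      Algebra.TensorProduct.algebraMap_apply, Algebra.algebraMap_self_apply,
      Algebra.algebraMap_eq_smul_one, TensorProduct.tmul_smul, TensorProduct.smul_tmul']
  exact congrArg (fun f : S ⊗[R] A →ₐ[S] S ⊗[R] S => f z) h

/-- the product of two copies of `PhiA` -/
noncomputable def Phi2 : (S ⊗[R] A) ⊗[S] (S ⊗[R] A) →ₐ[S] MonoidAlgebra (S ⊗[R] S) (M × M) :=
  Algebra.TensorProduct.lift (((in1 (S ⊗[R] S)).restrictScalars S).comp (PhiA ψ))
    (((in2 (S ⊗[R] S)).restrictScalars S).comp (PhiA ψ)) (fun _ _ => Commute.all _ _)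

lemma Phi2_tmul (y y' : S ⊗[R] A) :
    Phi2 ψ (y ⊗ₜ[S] y') = in1 (S ⊗[R] S) (PhiA ψ y) * in2 (S ⊗[R] S) (PhiA ψ y') := by
  rw [Phi2, Algebra.TensorProduct.lift_tmul]
  rfl

lemma Phi2_T0 (w : A ⊗[R] A) :
    iotaA R S (M × M) S (MonoidAlgebra.tensorEquiv S
      (TensorProduct.map (ψ : S ⊗[R] A →ₗ[S] MonoidAlgebra S M)
        (ψ : S ⊗[R] A →ₗ[S] MonoidAlgebra S M) (T₀ R S A w))) = Phi2 ψ (T₀ R S A w) := by
  induction w using TensorProduct.induction_on with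
  | zero => simp
  | tmul u v =>
    rw [T₀_tmul, TensorProduct.map_tmul, tensorEquiv_tmul, map_mul, iota_in1, iota_in2, Phi2_tmul,
      PhiA_one_tmul, PhiA_one_tmul]
    rfl
  | add x y hx hy => simp only [map_add, hx, hy]

lemma dg_PhiA (z : S ⊗[R] A) :
    dg (S ⊗[R] S) (PhiA ψ z) = Phi2 ψ (comul (R := S) z) := by
  have h : ((dg (S ⊗[R] S)).restrictScalars S).comp (PhiA ψ) =
      (Phi2 ψ).comp (Bialgebra.comulAlgHom S (S ⊗[R] A)) := by
    apply algHom_ext_one_tmul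
    intro x
    show dg (S ⊗[R] S) (PhiA ψ ((1 : S) ⊗ₜ[R] x)) = Phi2 ψ (comul (R := S) ((1 : S) ⊗ₜ[R] x))
    rw [PhiA_one_tmul, ← iota_dg, ← tensorEquiv_comul, ← CoalgHomClass.map_comp_comul_apply,
      comul_one_tmul]
    exact Phi2_T0 ψ (comul (R := R) x)
  exact congrArg (fun f : S ⊗[R] A →ₐ[S] MonoidAlgebra (S ⊗[R] S) (M × M) => f z) h

lemma isGroupLikeElem_PhiA {γ : S ⊗[R] A} (hγ : IsGroupLikeElem S γ) :
    IsGroupLikeElem (S ⊗[R] S) (PhiA ψ γ) := by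
  rw [isGroupLikeElem_iff_dg]
  refine ⟨by rw [counit_PhiA, hγ.counit_eq_one, map_one], ?_⟩
  rw [dg_PhiA, hγ.comul_eq_tmul_self, Phi2_tmul]

lemma gOf_GL (m : M) : IsGroupLikeElem (S ⊗[R] S) (gOf ψ m) := by
  rw [gOf_apply]
  exact isGroupLikeElem_PhiA ψ ((MonoidAlgebra.isGroupLikeElem_single_one (R := S) m).map ψ.symm)

end Datum

section Unique

variable {R S : Type u} [CommRing R] [CommRing S] [Algebra R S] [Module.FaithfullyFlat R S]
variable {M : Type u} [CommGroup M]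
variable {A A' : Type u} [CommRing A] [HopfAlgebra R A] [CommRing A'] [HopfAlgebra R A']

/-- Two forms of `S[M]` with the same image in `S[M]` are isomorphic. -/
theorem bialgEquiv_of_same_image (e : S ⊗[R] A ≃ₐc[S] MonoidAlgebra S M)
    (e' : S ⊗[R] A' ≃ₐc[S] MonoidAlgebra S M)
    (h : ∀ n, (∃ x : A, e ((1 : S) ⊗ₜ[R] x) = n) ↔ (∃ x' : A', e' ((1 : S) ⊗ₜ[R] x') = n)) :
    Nonempty (A ≃ₐc[R] A') := by
  haveI : Module.Flat R A := Groth.Agent.Lib.Helper6.QIso.flat_of_chart e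
  haveI : Module.Flat R A' := Groth.Agent.Lib.Helper6.QIso.flat_of_chart e'
  obtain ⟨Θ, hΘ⟩ : ∃ Θ : S ⊗[R] A →ₐc[S] S ⊗[R] A', ∀ z, Θ z = e'.symm (e z) :=
    ⟨(e'.symm : MonoidAlgebra S M →ₐc[S] S ⊗[R] A').comp
      (e : S ⊗[R] A →ₐc[S] MonoidAlgebra S M), fun z => rfl⟩
  obtain ⟨Θ', hΘ'⟩ : ∃ Θ' : S ⊗[R] A' →ₐc[S] S ⊗[R] A, ∀ z, Θ' z = e.symm (e' z) :=
    ⟨(e.symm : MonoidAlgebra S M →ₐc[S] S ⊗[R] A).comp
      (e' : S ⊗[R] A' →ₐc[S] MonoidAlgebra S M), fun z => rfl⟩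
  have hd : ∀ x : A, ∃ x' : A', Θ ((1 : S) ⊗ₜ[R] x) = (1 : S) ⊗ₜ[R] x' := by
    intro x
    obtain ⟨x', hx'⟩ := (h _).mp ⟨x, rfl⟩
    exact ⟨x', by rw [hΘ, ← hx', BialgEquiv.symm_apply_apply]⟩
  have hd' : ∀ x' : A', ∃ x : A, Θ' ((1 : S) ⊗ₜ[R] x') = (1 : S) ⊗ₜ[R] x := by
    intro x'
    obtain ⟨x, hx⟩ := (h _).mpr ⟨x', rfl⟩
    exact ⟨x, by rw [hΘ', ← hx, BialgEquiv.symm_apply_apply]⟩
  obtain ⟨φ, hφ⟩ := Groth.Agent.Lib.Helper6.QIso.exists_bialgHom_of_descends Θ hd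
  obtain ⟨φ', hφ'⟩ := Groth.Agent.Lib.Helper6.QIso.exists_bialgHom_of_descends Θ' hd'
  have h1 : ∀ x, φ' (φ x) = x := by
    intro x
    apply Module.FaithfullyFlat.tensorProduct_mk_injective (A := R) (B := S) A
    show (1 : S) ⊗ₜ[R] φ' (φ x) = (1 : S) ⊗ₜ[R] x
    rw [← hφ', ← hφ, hΘ, hΘ', BialgEquiv.apply_symm_apply, BialgEquiv.symm_apply_apply]
  have h2 : ∀ x, φ (φ' x) = x := by
    intro x
    apply Module.FaithfullyFlat.tensorProduct_mk_injective (A := R) (B := S) A'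
    show (1 : S) ⊗ₜ[R] φ (φ' x) = (1 : S) ⊗ₜ[R] x
    rw [← hφ, ← hφ', hΘ', hΘ, BialgEquiv.apply_symm_apply, BialgEquiv.symm_apply_apply]
  exact ⟨BialgEquiv.ofBialgHom φ φ' (BialgHom.ext h2) (BialgHom.ext h1)⟩

lemma liftBaseChange_jA (e : S ⊗[R] A ≃ₐc[S] MonoidAlgebra S M) (z : S ⊗[R] A) :
    LinearMap.liftBaseChange S (jA e).toLinearMap z = e z := by
  induction z using TensorProduct.induction_on with
  | zero => simp
  | tmul s x =>
    have h1 : s ⊗ₜ[R] x = s • ((1 : S) ⊗ₜ[R] x) := by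
      rw [TensorProduct.smul_tmul', smul_eq_mul, mul_one]
    rw [LinearMap.liftBaseChange_tmul, h1, map_smul]
    rfl
  | add x y hx hy => rw [map_add, map_add, hx, hy]

/-- A form of `S[M]` lying inside the twisted form of a datum `g` is the whole twisted form. -/
theorem image_eq_Dsub (g : M →* MonoidAlgebra (S ⊗[R] S) M)
    (e : S ⊗[R] A ≃ₐc[S] MonoidAlgebra S M)
    (h : ∀ x : A, e ((1 : S) ⊗ₜ[R] x) ∈ Dsub g) (n : MonoidAlgebra S M) :
    (∃ x : A, e ((1 : S) ⊗ₜ[R] x) = n) ↔ n ∈ Dsub g := by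
  constructor
  · rintro ⟨x, rfl⟩
    exact h x
  · intro hn
    have hE : Function.Surjective (LinearMap.liftBaseChange S (jA e).toLinearMap) := by
      intro n'
      exact ⟨e.symm n', by rw [liftBaseChange_jA, BialgEquiv.apply_symm_apply]⟩
    have h' : ∀ x : A, jA e x ∈ Dsub g := h
    have h3 : ∀ x : A, (Dsub g).val ((jA e).codRestrict (Dsub g) h' x) = jA e x := fun x => rfl
    have hsurj : Function.Surjective ((jA e).codRestrict (Dsub g) h') :=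
      @form_unique_alg R S _ _ _ A (Dsub g) (MonoidAlgebra S M) _ _ _ _ _ _ _ _ _
        ((jA e).codRestrict (Dsub g) h') (jA e) (Dsub g).val h3 hE (form_injective_model g)
    obtain ⟨x, hx⟩ := hsurj ⟨n, hn⟩
    exact ⟨x, congrArg Subtype.val hx⟩

end Unique

end Groth.Agent.Lib.Helper6.TwForm
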