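import Mathlib
import Groth.Prelude.Def_SGA3b
import Groth.Agent.Lib.Helper6.TwForm.TW6

/-!
# Twisted forms, part 7: reduction of descent data and lifting along a map whose kernel lies in
the Jacobson radical and along which idempotents lift (helper6)
-/

set_option autoImplicit false
set_option linter.unusedSectionVars false
set_option linter.unusedVariables false
set_option linter.unusedSimpArgs false
set_option linter.style.haveILetI false
set_option linter.overlappingInstances false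
set_option maxHeartbeats 800000
set_option synthInstance.maxHeartbeats 400000

universe u
open TensorProduct Coalgebra
open Groth.Agent.Lib.Helper6.MultType

namespace Groth.Agent.Lib.Helper6.TwForm

section Red

variable {R S R₀ S₀ : Type u} [CommRing R] [CommRing S] [Algebra R S] [CommRing R₀] [CommRing S₀]
  [Algebra R₀ S₀]
variable (πR : R →+* R₀) (πS : S →+* S₀)
  (hπ : πS.comp (algebraMap R S) = (algebraMap R₀ S₀).comp πR)
variable {M : Type u} [CommGroup M]

/-- the reduction `S ⊗ S → S₀ ⊗ S₀` -/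
noncomputable def piT : S ⊗[R] S →+* S₀ ⊗[R₀] S₀ :=
  Algebra.TensorProduct.mapRingHom πR πS πS hπ hπ

lemma piT_tmul (a b : S) : piT πR πS hπ (a ⊗ₜ[R] b) = πS a ⊗ₜ[R₀] πS b :=
  Algebra.TensorProduct.mapRingHom_tmul _ _ _ _ _ _ _

lemma piT_comm : (piT πR πS hπ).comp (algebraMap R (S ⊗[R] S)) =
    (algebraMap R₀ (S₀ ⊗[R₀] S₀)).comp πR := by
  ext r
  show piT πR πS hπ (algebraMap R (S ⊗[R] S) r) = algebraMap R₀ (S₀ ⊗[R₀] S₀) (πR r)
  rw [Algebra.TensorProduct.algebraMap_apply, Algebra.TensorProduct.algebraMap_apply, piT_tmul,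
    map_one]
  congr 1
  exact RingHom.congr_fun hπ r

/-- the reduction `S ⊗ (S ⊗ S) → S₀ ⊗ (S₀ ⊗ S₀)` -/
noncomputable def piU : S ⊗[R] (S ⊗[R] S) →+* S₀ ⊗[R₀] (S₀ ⊗[R₀] S₀) :=
  Algebra.TensorProduct.mapRingHom πR πS (piT πR πS hπ) hπ (piT_comm πR πS hπ)

lemma piU_tmul (a : S) (t : S ⊗[R] S) :
    piU πR πS hπ (a ⊗ₜ[R] t) = πS a ⊗ₜ[R₀] piT πR πS hπ t :=
  Algebra.TensorProduct.mapRingHom_tmul _ _ _ _ _ _ _

lemma red_iota (n : MonoidAlgebra S M) :
    MonoidAlgebra.mapRingHom M (piT πR πS hπ) (iotaA R S M S n) =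
      iotaA R₀ S₀ M S₀ (MonoidAlgebra.mapRingHom M πS n) := by
  induction n using MonoidAlgebra.induction_linear with
  | zero => simp
  | add x y hx hy => simp only [map_add, hx, hy]
  | single m c =>
    rw [iotaA_single, MonoidAlgebra.mapRingHom_single, MonoidAlgebra.mapRingHom_single,
      iotaA_single, piT_tmul, map_one]

lemma lmul_piT (t : S ⊗[R] S) :
    πS (Algebra.TensorProduct.lmul'' R t) = Algebra.TensorProduct.lmul'' R₀ (piT πR πS hπ t) := by
  induction t using TensorProduct.induction_on with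
  | zero => simp
  | tmul a b => rw [piT_tmul]; simp [Algebra.TensorProduct.lmul'']
  | add x y hx hy => simp only [map_add, hx, hy]

lemma red_eps (y : MonoidAlgebra (S ⊗[R] S) M) :
    MonoidAlgebra.mapRingHom M πS (epsA R S M y) =
      epsA R₀ S₀ M (MonoidAlgebra.mapRingHom M (piT πR πS hπ) y) := by
  induction y using MonoidAlgebra.induction_linear with
  | zero => simp
  | add x y hx hy => simp only [map_add, hx, hy]
  | single m t =>
    rw [epsA_eq, epsA_eq, MonoidAlgebra.mapRingHom_single, MonoidAlgebra.mapRingHom_single,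
      MonoidAlgebra.mapRingHom_single, MonoidAlgebra.mapRingHom_single]
    congr 1
    exact lmul_piT πR πS hπ t

lemma d1_piT (t : S ⊗[R] S) :
    piU πR πS hπ (d1 R S t) = d1 R₀ S₀ (piT πR πS hπ t) := by
  induction t using TensorProduct.induction_on with
  | zero => simp
  | tmul a b => rw [d1_tmul, piU_tmul, piT_tmul, piT_tmul, d1_tmul, map_one]
  | add x y hx hy => simp only [map_add, hx, hy]

lemma d2_piT (t : S ⊗[R] S) :
    piU πR πS hπ (d2 R S t) = d2 R₀ S₀ (piT πR πS hπ t) := by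
  induction t using TensorProduct.induction_on with
  | zero => simp
  | tmul a b => rw [d2_tmul, piU_tmul, piT_tmul, piT_tmul, d2_tmul, map_one]
  | add x y hx hy => simp only [map_add, hx, hy]

lemma red_del1 (y : MonoidAlgebra (S ⊗[R] S) M) :
    MonoidAlgebra.mapRingHom M (piU πR πS hπ) (del1 R S M y) =
      del1 R₀ S₀ M (MonoidAlgebra.mapRingHom M (piT πR πS hπ) y) := by
  induction y using MonoidAlgebra.induction_linear with
  | zero => simp
  | add x y hx hy => simp only [map_add, hx, hy]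
  | single m t =>
    rw [del1_eq, del1_eq, MonoidAlgebra.mapRingHom_single, MonoidAlgebra.mapRingHom_single,
      MonoidAlgebra.mapRingHom_single, MonoidAlgebra.mapRingHom_single]
    congr 1
    exact d1_piT πR πS hπ t

lemma red_iota1 (y : MonoidAlgebra (S ⊗[R] S) M) :
    MonoidAlgebra.mapRingHom M (piU πR πS hπ) (iotaA R S M (S ⊗[R] S) y) =
      iotaA R₀ S₀ M (S₀ ⊗[R₀] S₀) (MonoidAlgebra.mapRingHom M (piT πR πS hπ) y) := by
  induction y using MonoidAlgebra.induction_linear with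
  | zero => simp
  | add x y hx hy => simp only [map_add, hx, hy]
  | single m t =>
    rw [iotaA_single, MonoidAlgebra.mapRingHom_single, MonoidAlgebra.mapRingHom_single,
      iotaA_single, piU_tmul, map_one]

variable (g : M →* MonoidAlgebra (S ⊗[R] S) M) (g₀ : M →* MonoidAlgebra (S₀ ⊗[R₀] S₀) M)

lemma red_a1 (hg : ∀ m, MonoidAlgebra.mapRingHom M (piT πR πS hπ) (g m) = g₀ m)
    (y : MonoidAlgebra (S ⊗[R] S) M) :
    MonoidAlgebra.mapRingHom M (piU πR πS hπ) (a1 g y) =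
      a1 g₀ (MonoidAlgebra.mapRingHom M (piT πR πS hπ) y) := by
  induction y using MonoidAlgebra.induction_linear with
  | zero => simp
  | add x y hx hy => simp only [map_add, hx, hy]
  | single m t =>
    rw [a1_single, mapRingHom_smul, red_iota1, hg, MonoidAlgebra.mapRingHom_single, a1_single,
      d2_piT]

lemma red_aA (hg : ∀ m, MonoidAlgebra.mapRingHom M (piT πR πS hπ) (g m) = g₀ m)
    (n : MonoidAlgebra S M) :
    MonoidAlgebra.mapRingHom M (piT πR πS hπ) (aA g n) =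
      aA g₀ (MonoidAlgebra.mapRingHom M πS n) := by
  induction n using MonoidAlgebra.induction_linear with
  | zero => simp
  | add x y hx hy => simp only [map_add, hx, hy]
  | single m c =>
    rw [aA_single, smul_eq_tmul_smul, mapRingHom_smul, hg, MonoidAlgebra.mapRingHom_single,
      aA_single, piT_tmul, map_one, ← smul_eq_tmul_smul]

/-- reduction maps the twisted form of `g` into the twisted form of `g₀` -/
lemma red_mem_Dsub (hg : ∀ m, MonoidAlgebra.mapRingHom M (piT πR πS hπ) (g m) = g₀ m)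
    {n : MonoidAlgebra S M} (hn : n ∈ Dsub g) :
    MonoidAlgebra.mapRingHom M πS n ∈ Dsub g₀ := by
  rw [mem_Dsub] at hn ⊢
  rw [← red_aA πR πS hπ g g₀ hg, hn, red_iota]

end Red

section Lift

variable {R S R₀ S₀ : Type u} [CommRing R] [CommRing S] [Algebra R S] [CommRing R₀] [CommRing S₀]
  [Algebra R₀ S₀]
variable (πR : R →+* R₀) (πS : S →+* S₀)
  (hπ : πS.comp (algebraMap R S) = (algebraMap R₀ S₀).comp πR)
variable {M : Type u} [CommGroup M]

lemma isGroupLikeElem_lift' (C : Type u) [CommRing C] {M' : Type u} [CommGroup M']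
    (G : M →* MonoidAlgebra C M') (hG : ∀ m, IsGroupLikeElem C (G m)) {y : MonoidAlgebra C M}
    (hy : IsGroupLikeElem C y) :
    IsGroupLikeElem C (MonoidAlgebra.lift C (MonoidAlgebra C M') M G y) :=
  isGroupLikeElem_lift G hG hy

lemma a1_eq (g : M →* MonoidAlgebra (S ⊗[R] S) M) (y : MonoidAlgebra (S ⊗[R] S) M) :
    a1 g y = MonoidAlgebra.lift (S ⊗[R] (S ⊗[R] S)) (MonoidAlgebra (S ⊗[R] (S ⊗[R] S)) M) M (G1 g)
      (MonoidAlgebra.mapRingHom M ((d2 R S : S ⊗[R] S →ₐ[S] S ⊗[R] (S ⊗[R] S)) :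
        S ⊗[R] S →+* S ⊗[R] (S ⊗[R] S)) y) := rfl

lemma isGroupLikeElem_a1 (g : M →* MonoidAlgebra (S ⊗[R] S) M)
    (hGL : ∀ m, IsGroupLikeElem (S ⊗[R] S) (g m)) {y : MonoidAlgebra (S ⊗[R] S) M}
    (hy : IsGroupLikeElem (S ⊗[R] S) y) : IsGroupLikeElem (S ⊗[R] (S ⊗[R] S)) (a1 g y) := by
  have h1 : ∀ m', IsGroupLikeElem (S ⊗[R] (S ⊗[R] S)) (G1 g m') := by
    intro m'
    rw [G1_apply, iotaA_eq]
    exact isGroupLikeElem_mapRingHom _ (hGL m')
  have h2 : IsGroupLikeElem (S ⊗[R] (S ⊗[R] S))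
      (MonoidAlgebra.mapRingHom M ((d2 R S : S ⊗[R] S →ₐ[S] S ⊗[R] (S ⊗[R] S)) :
        S ⊗[R] S →+* S ⊗[R] (S ⊗[R] S)) y) := isGroupLikeElem_mapRingHom _ hy
  rw [a1_eq]
  exact isGroupLikeElem_lift' (S ⊗[R] (S ⊗[R] S)) (G1 g) h1 h2

open Groth.Agent.Lib.Helper6.QIso in
/-- Lifting of descent data. -/
theorem exists_datum_lift (g₀ : M →* MonoidAlgebra (S₀ ⊗[R₀] S₀) M)
    (hGL₀ : ∀ m, IsGroupLikeElem (S₀ ⊗[R₀] S₀) (g₀ m))
    (hCU₀ : ∀ m, epsA R₀ S₀ M (g₀ m) = MonoidAlgebra.single m 1)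
    (hCC₀ : ∀ m, a1 g₀ (g₀ m) = del1 R₀ S₀ M (g₀ m))
    (hJS : ∀ x : S, πS x = 0 → x ∈ Ideal.jacobson (⊥ : Ideal S))
    (hJT : ∀ x : S ⊗[R] S, piT πR πS hπ x = 0 → x ∈ Ideal.jacobson (⊥ : Ideal (S ⊗[R] S)))
    (hJU : ∀ x : S ⊗[R] (S ⊗[R] S), piU πR πS hπ x = 0 →
      x ∈ Ideal.jacobson (⊥ : Ideal (S ⊗[R] (S ⊗[R] S))))
    (hlift : ∀ e0 : S₀ ⊗[R₀] S₀, IsIdempotentElem e0 →
      ∃ e : S ⊗[R] S, IsIdempotentElem e ∧ piT πR πS hπ e = e0) :
    ∃ g : M →* MonoidAlgebra (S ⊗[R] S) M, (∀ m, IsGroupLikeElem (S ⊗[R] S) (g m)) ∧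
      (∀ m, epsA R S M (g m) = MonoidAlgebra.single m 1) ∧
      (∀ m, a1 g (g m) = del1 R S M (g m)) ∧
      ∀ m, MonoidAlgebra.mapRingHom M (piT πR πS hπ) (g m) = g₀ m := by
  have hex : ∀ m, ∃ γ : MonoidAlgebra (S ⊗[R] S) M, IsGroupLikeElem (S ⊗[R] S) γ ∧
      MonoidAlgebra.mapRingHom M (piT πR πS hπ) γ = g₀ m :=
    fun m => exists_groupLike_lift_of_idem (piT πR πS hπ) hJT hlift (hGL₀ m)
  choose γ hγ hγπ using hex
  have hmul : ∀ m m', γ (m * m') = γ m * γ m' := by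
    intro m m'
    apply groupLike_eq_of_map_eq (piT πR πS hπ) hJT (hγ _) ((hγ m).mul (hγ m'))
    rw [hγπ, map_mul, map_mul, hγπ, hγπ]
  have hone : γ 1 = 1 := by
    apply groupLike_eq_of_map_eq (piT πR πS hπ) hJT (hγ 1) IsGroupLikeElem.one
    rw [hγπ, map_one, map_one]
  obtain ⟨g, hg⟩ : ∃ g : M →* MonoidAlgebra (S ⊗[R] S) M, ∀ m, g m = γ m :=
    ⟨{ toFun := γ, map_one' := hone, map_mul' := hmul }, fun _ => rfl⟩
  have hgGL : ∀ m, IsGroupLikeElem (S ⊗[R] S) (g m) := fun m => by rw [hg]; exact hγ m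
  have hgπ : ∀ m, MonoidAlgebra.mapRingHom M (piT πR πS hπ) (g m) = g₀ m := fun m => by
    rw [hg]; exact hγπ m
  refine ⟨g, hgGL, ?_, ?_, hgπ⟩
  · intro m
    apply groupLike_eq_of_map_eq πS hJS
    · rw [epsA_eq]
      exact isGroupLikeElem_mapRingHom _ (hgGL m)
    · exact MonoidAlgebra.isGroupLikeElem_single_one (R := S) m
    · rw [red_eps πR πS hπ, hgπ, hCU₀, MonoidAlgebra.mapRingHom_single, map_one]
  · intro m
    apply groupLike_eq_of_map_eq (piU πR πS hπ) hJU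
    · exact isGroupLikeElem_a1 g hgGL (hgGL m)
    · rw [del1_eq]
      exact isGroupLikeElem_mapRingHom _ (hgGL m)
    · rw [red_a1 πR πS hπ g g₀ hgπ, red_del1, hgπ, hCC₀]

end Lift

end Groth.Agent.Lib.Helper6.TwForm
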