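import Mathlib
import Groth.Prelude.Def_SGA3b
import Groth.Agent.Lib.Helper6.TwForm.TW7
import Groth.Agent.Lib.Helper6.QIso.QI17
import Groth.Agent.Lib.Helper6.IsoJac.IJ2
import Groth.Agent.Lib.Helper6.IsoNil.IN1
import Groth.Agent.Lib.Helper7.Hens.FinEtaleLift

/-!
# Twisted forms, part 8: reductions modulo a henselian ideal; lifting of isotrivial groups of
multiplicative type along a henselian pair (SGA 3, X 3.? / 4.?) (helper6)
-/

set_option autoImplicit false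
set_option linter.unusedSectionVars false
set_option linter.unusedVariables false
set_option linter.unusedSimpArgs false
set_option linter.style.haveILetI false
set_option linter.overlappingInstances false
set_option maxHeartbeats 800000
set_option synthInstance.maxHeartbeats 400000

universe u
open TensorProduct Coalgebra SGA3b
open Groth.Agent.Lib.Helper6.MultType Groth.Agent.Lib.Helper6.Isotriv
open Groth.Agent.Lib.Helper6.QIso
open Groth.Agent.Helper7.Hensel (Gabber)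

namespace Groth.Agent.Lib.Helper6.TwForm

section GoodRed

variable {R : Type u} [CommRing R] (I : Ideal R)
variable {C C₀ : Type u} [CommRing C] [Algebra R C] [CommRing C₀] [Algebra R C₀]
  [Algebra (R ⧸ I) C₀] [IsScalarTower R (R ⧸ I) C₀]
variable (π : C →ₐ[R] C₀)

/-- `c ⊗ r ↦ π c * r` -/
noncomputable def Lam : C ⊗[R] (R ⧸ I) →ₐ[R] C₀ :=
  Algebra.TensorProduct.lift π (IsScalarTower.toAlgHom R (R ⧸ I) C₀) (fun _ _ => Commute.all _ _)

lemma Lam_eq (z : C ⊗[R] (R ⧸ I)) :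
    Lam I π z = LinearMap.liftBaseChange (R ⧸ I) π.toLinearMap
      (TensorProduct.comm R C (R ⧸ I) z) := by
  induction z using TensorProduct.induction_on with
  | zero => simp
  | tmul c r =>
    rw [Lam, Algebra.TensorProduct.lift_tmul, TensorProduct.comm_tmul,
      LinearMap.liftBaseChange_tmul, Algebra.smul_def, mul_comm]
    rfl
  | add x y hx hy => rw [map_add, map_add, hx, hy, map_add]

lemma Lam_bijective
    (hπ : Function.Bijective (LinearMap.liftBaseChange (R ⧸ I) π.toLinearMap)) :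
    Function.Bijective (Lam I π) := by
  have h : (Lam I π : C ⊗[R] (R ⧸ I) → C₀) =
      (LinearMap.liftBaseChange (R ⧸ I) π.toLinearMap) ∘ (TensorProduct.comm R C (R ⧸ I)) :=
    funext (Lam_eq I π)
  rw [h]
  exact hπ.comp (TensorProduct.comm R C (R ⧸ I)).bijective

lemma Lam_redHom (x : C) : Lam I π (redHom I R C x) = π x := by
  rw [redHom_apply, Lam, Algebra.TensorProduct.lift_tmul, map_one, mul_one]

/-- A reduction of an integral algebra modulo a henselian ideal has kernel in the Jacobson radical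
and lifts idempotents. -/
theorem goodRed [Algebra.IsIntegral R C] (hG : Gabber R I)
    (hπ : Function.Bijective (LinearMap.liftBaseChange (R ⧸ I) π.toLinearMap)) :
    (∀ x, π x = 0 → x ∈ Ideal.jacobson (⊥ : Ideal C)) ∧
      (∀ e0 : C₀, IsIdempotentElem e0 → ∃ e : C, IsIdempotentElem e ∧ π e = e0) := by
  have hb := Lam_bijective I π hπ
  constructor
  · intro x hx
    apply redHom_ker_le_jacobson I R C hG.1
    apply hb.1
    rw [Lam_redHom, hx, map_zero]
  · intro e0 he0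
    obtain ⟨z, hz⟩ := hb.2 e0
    have hzi : IsIdempotentElem z := by
      apply hb.1
      show Lam I π (z * z) = Lam I π z
      rw [map_mul, hz, he0.eq]
    obtain ⟨e, he, hez⟩ := redHom_idem_lift I R C hG z hzi
    exact ⟨e, he, by rw [← Lam_redHom I π, hez, hz]⟩

end GoodRed

section ChartSelf

variable {R : Type u} [CommRing R] {A : Type u} [CommRing A] [HopfAlgebra R A]
variable {R' : Type u} [CommRing R'] [Algebra R R'] {M : Type u} [CommGroup M]
variable (φ : R' ⊗[R] A ≃ₐc[R'] MonoidAlgebra R' M)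

lemma mapAlgHom_ofId (n : MonoidAlgebra R' M) :
    MonoidAlgebra.mapAlgHom M (Algebra.ofId R' R') n = n := by
  induction n using MonoidAlgebra.induction_linear with
  | zero => simp
  | add x y hx hy => rw [map_add, hx, hy]
  | single m c => simp

lemma chartOver_self_one_tmul (x : A) :
    chartOver φ R' ((1 : R') ⊗ₜ[R] x) = φ ((1 : R') ⊗ₜ[R] x) := by
  show scalarTensorBialgEquiv R' R' M (baseChangeBialgEquiv R' φ
    ((cancelBaseChangeBialgEquiv R R' A R').symm ((1 : R') ⊗ₜ[R] x))) = _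
  rw [cancelBaseChangeBialgEquiv_symm_tmul, baseChangeBialgEquiv_tmul]
  show MonoidAlgebra.scalarTensorEquiv R' R' ((1 : R') ⊗ₜ[R'] φ ((1 : R') ⊗ₜ[R] x)) = _
  rw [MonoidAlgebra.scalarTensorEquiv_tmul, one_smul, mapAlgHom_ofId]

end ChartSelf

section PiUComm

variable {R S R₀ S₀ : Type u} [CommRing R] [CommRing S] [Algebra R S] [CommRing R₀] [CommRing S₀]
  [Algebra R₀ S₀]
variable (πR : R →+* R₀) (πS : S →+* S₀)
  (hπ : πS.comp (algebraMap R S) = (algebraMap R₀ S₀).comp πR)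

lemma piU_comm : (piU πR πS hπ).comp (algebraMap R (S ⊗[R] (S ⊗[R] S))) =
    (algebraMap R₀ (S₀ ⊗[R₀] (S₀ ⊗[R₀] S₀))).comp πR := by
  ext r
  show piU πR πS hπ (algebraMap R (S ⊗[R] (S ⊗[R] S)) r) =
    algebraMap R₀ (S₀ ⊗[R₀] (S₀ ⊗[R₀] S₀)) (πR r)
  rw [Algebra.TensorProduct.algebraMap_apply, Algebra.TensorProduct.algebraMap_apply, piU_tmul,
    map_one]
  congr 1
  exact RingHom.congr_fun hπ r

end PiUComm

section Concrete

variable {R : Type u} [CommRing R] (I : Ideal R) {S S₀ : Type u} [CommRing S] [Algebra R S]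
  [CommRing S₀] [Algebra R S₀] [Algebra (R ⧸ I) S₀] [IsScalarTower R (R ⧸ I) S₀]
variable (πS : S →ₐ[R] S₀)

/-- the reduction `S → S₀` as a ring map -/
noncomputable def redSr : S →+* S₀ := (πS : S →+* S₀)

lemma redSr_apply (s : S) : redSr πS s = πS s := rfl

lemma redS_comm : (redSr πS).comp (algebraMap R S) =
    (algebraMap (R ⧸ I) S₀).comp (algebraMap R (R ⧸ I)) := by
  ext r
  show πS (algebraMap R S r) = algebraMap (R ⧸ I) S₀ (algebraMap R (R ⧸ I) r)
  rw [AlgHom.commutes, ← IsScalarTower.algebraMap_apply]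

/-- the reduction `S ⊗ S → S₀ ⊗ S₀` as an algebra map -/
noncomputable def redT : S ⊗[R] S →ₐ[R] S₀ ⊗[R ⧸ I] S₀ :=
  { piT (algebraMap R (R ⧸ I)) (redSr πS) (redS_comm I πS) with
    commutes' := fun r => by
      have h := RingHom.congr_fun
        (piT_comm (algebraMap R (R ⧸ I)) (redSr πS) (redS_comm I πS)) r
      rw [IsScalarTower.algebraMap_apply R (R ⧸ I) (S₀ ⊗[R ⧸ I] S₀)]
      exact h }

lemma redT_apply (t : S ⊗[R] S) :
    redT I πS t = piT (algebraMap R (R ⧸ I)) (redSr πS) (redS_comm I πS) t := rfl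

/-- the reduction `S ⊗ (S ⊗ S) → S₀ ⊗ (S₀ ⊗ S₀)` as an algebra map -/
noncomputable def redU : S ⊗[R] (S ⊗[R] S) →ₐ[R] S₀ ⊗[R ⧸ I] (S₀ ⊗[R ⧸ I] S₀) :=
  { piU (algebraMap R (R ⧸ I)) (redSr πS) (redS_comm I πS) with
    commutes' := fun r => by
      have h := RingHom.congr_fun
        (piU_comm (algebraMap R (R ⧸ I)) (redSr πS) (redS_comm I πS)) r
      rw [IsScalarTower.algebraMap_apply R (R ⧸ I) (S₀ ⊗[R ⧸ I] (S₀ ⊗[R ⧸ I] S₀))]
      exact h }

lemma redU_apply (t : S ⊗[R] (S ⊗[R] S)) :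
    redU I πS t = piU (algebraMap R (R ⧸ I)) (redSr πS) (redS_comm I πS) t := rfl

variable (hPS : Function.Bijective (LinearMap.liftBaseChange (R ⧸ I) πS.toLinearMap))

include hPS in
lemma redT_form :
    Function.Bijective (LinearMap.liftBaseChange (R ⧸ I) (redT I πS).toLinearMap) := by
  have h : (redT I πS).toLinearMap = kap (R ⧸ I) πS.toLinearMap πS.toLinearMap := by
    apply TensorProduct.ext'
    intro a b
    show piT (algebraMap R (R ⧸ I)) (redSr πS) (redS_comm I πS) (a ⊗ₜ[R] b) = _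
    rw [piT_tmul, kap_tmul]
    rfl
  rw [h]
  exact formTensor_bijective (S := R ⧸ I) πS.toLinearMap πS.toLinearMap hPS hPS

include hPS in
lemma redU_form :
    Function.Bijective (LinearMap.liftBaseChange (R ⧸ I) (redU I πS).toLinearMap) := by
  have h : (redU I πS).toLinearMap = kap (R ⧸ I) πS.toLinearMap (redT I πS).toLinearMap := by
    apply TensorProduct.ext'
    intro a b
    show piU (algebraMap R (R ⧸ I)) (redSr πS) (redS_comm I πS) (a ⊗ₜ[R] b) = _
    rw [piU_tmul, kap_tmul]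
    rfl
  rw [h]
  exact formTensor_bijective (S := R ⧸ I) πS.toLinearMap (redT I πS).toLinearMap hPS
    (redT_form I πS hPS)

end Concrete

section RedS

variable {R : Type u} [CommRing R] (I : Ideal R) (S : Type u) [CommRing S] [Algebra R S]

lemma redS_form : Function.Bijective (LinearMap.liftBaseChange (R ⧸ I)
    (Algebra.TensorProduct.includeRight : S →ₐ[R] (R ⧸ I) ⊗[R] S).toLinearMap) := by
  have h : ∀ z, LinearMap.liftBaseChange (R ⧸ I)
      (Algebra.TensorProduct.includeRight : S →ₐ[R] (R ⧸ I) ⊗[R] S).toLinearMap z = z := by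
    intro z
    induction z using TensorProduct.induction_on with
    | zero => simp
    | tmul r s =>
      rw [LinearMap.liftBaseChange_tmul]
      show r • ((1 : R ⧸ I) ⊗ₜ[R] s) = r ⊗ₜ[R] s
      rw [TensorProduct.smul_tmul', smul_eq_mul, mul_one]
    | add x y hx hy => rw [map_add, hx, hy]
  have h' : (LinearMap.liftBaseChange (R ⧸ I)
      (Algebra.TensorProduct.includeRight : S →ₐ[R] (R ⧸ I) ⊗[R] S).toLinearMap :
      (R ⧸ I) ⊗[R] S → (R ⧸ I) ⊗[R] S) = id := funext h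
  rw [h']
  exact Function.bijective_id

end RedS

section Core

variable {R : Type u} [CommRing R] (I : Ideal R) {S S₀ : Type u} [CommRing S] [Algebra R S]
  [CommRing S₀] [Algebra R S₀] [Algebra (R ⧸ I) S₀] [IsScalarTower R (R ⧸ I) S₀]
variable (πS : S →ₐ[R] S₀)
variable {M : Type u} [CommGroup M] {A₀ : Type u} [CommRing A₀] [HopfAlgebra (R ⧸ I) A₀]

/-- Comparison of the reduction of the lifted form with the original group. -/
theorem reduction_equiv [Module.FaithfullyFlat (R ⧸ I) S₀]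
    (ψ₀ : S₀ ⊗[R ⧸ I] A₀ ≃ₐc[S₀] MonoidAlgebra S₀ M)
    (g : M →* MonoidAlgebra (S ⊗[R] S) M)
    (hgπ : ∀ m, MonoidAlgebra.mapRingHom M
      (piT (algebraMap R (R ⧸ I)) (redSr πS) (redS_comm I πS)) (g m) = gOf ψ₀ m)
    {A : Type u} [CommRing A] [HopfAlgebra R A] (e : S ⊗[R] A ≃ₐc[S] MonoidAlgebra S M)
    (he : ∀ n : MonoidAlgebra S M, (∃ x : A, e ((1 : S) ⊗ₜ[R] x) = n) ↔
      aA g n = iotaA R S M S n) :
    Nonempty (((R ⧸ I) ⊗[R] A) ≃ₐc[R ⧸ I] A₀) := by
  letI : Algebra S S₀ := (redSr πS).toAlgebra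
  haveI : IsScalarTower R S S₀ := IsScalarTower.of_algebraMap_eq (fun r => (πS.commutes r).symm)
  obtain ⟨eB, heB⟩ : ∃ eB : S₀ ⊗[R ⧸ I] ((R ⧸ I) ⊗[R] A) ≃ₐc[S₀] MonoidAlgebra S₀ M,
      ∀ z, eB z = chartOver e S₀ (cancelBaseChangeBialgEquiv R (R ⧸ I) A S₀ z) :=
    ⟨(cancelBaseChangeBialgEquiv R (R ⧸ I) A S₀).trans (chartOver e S₀), fun z => rfl⟩
  have h1 : ∀ x : A, eB ((1 : S₀) ⊗ₜ[R ⧸ I] ((1 : R ⧸ I) ⊗ₜ[R] x)) =
      MonoidAlgebra.mapRingHom M (redSr πS) (e ((1 : S) ⊗ₜ[R] x)) := by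
    intro x
    rw [heB, cancelBaseChangeBialgEquiv_tmul, one_smul]
    have h : ((1 : S₀) ⊗ₜ[R] x : S₀ ⊗[R] A) =
        push A ((Algebra.ofId S S₀).restrictScalars R) ((1 : S) ⊗ₜ[R] x) := by
      rw [push_tmul]
      show _ = (Algebra.ofId S S₀ 1) ⊗ₜ[R] x
      rw [map_one]
    rw [h, chartOver_push, chartOver_self_one_tmul]
    rfl
  have h1' : ∀ x : A, eB ((1 : S₀) ⊗ₜ[R ⧸ I] ((1 : R ⧸ I) ⊗ₜ[R] x)) ∈ Dsub (gOf ψ₀) := by
    intro x
    rw [h1]
    exact red_mem_Dsub (algebraMap R (R ⧸ I)) (redSr πS) (redS_comm I πS) g (gOf ψ₀) hgπ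
      ((mem_Dsub g _).mpr ((he _).mp ⟨x, rfl⟩))
  have h2 : ∀ b : (R ⧸ I) ⊗[R] A, eB ((1 : S₀) ⊗ₜ[R ⧸ I] b) ∈ Dsub (gOf ψ₀) := by
    intro b
    induction b using TensorProduct.induction_on with
    | zero =>
      rw [TensorProduct.tmul_zero, map_zero]
      exact zero_mem _
    | tmul r x =>
      have hb : (r ⊗ₜ[R] x : (R ⧸ I) ⊗[R] A) = r • ((1 : R ⧸ I) ⊗ₜ[R] x) := by
        rw [TensorProduct.smul_tmul', smul_eq_mul, mul_one]
      rw [hb, TensorProduct.tmul_smul,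
        ← algebraMap_smul S₀ r ((1 : S₀) ⊗ₜ[R ⧸ I] ((1 : R ⧸ I) ⊗ₜ[R] x)), map_smul,
        algebraMap_smul]
      exact (Dsub (gOf ψ₀)).smul_mem (h1' x) r
    | add x y hx hy =>
      rw [TensorProduct.tmul_add, map_add]
      exact add_mem hx hy
  have h3 : ∀ x₀ : A₀, ψ₀ ((1 : S₀) ⊗ₜ[R ⧸ I] x₀) ∈ Dsub (gOf ψ₀) :=
    fun x₀ => (mem_Dsub _ _).mpr (aA_jA ψ₀ x₀)
  exact bialgEquiv_of_same_image eB ψ₀
    (fun n => (image_eq_Dsub (gOf ψ₀) eB h2 n).trans (image_eq_Dsub (gOf ψ₀) ψ₀ h3 n).symm)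

/-- Lifting of a twisted form of a group algebra along a henselian pair, given a lift of the
splitting algebra. -/
theorem exists_lift_of_chart [Module.Finite R S] [Module.FaithfullyFlat R S]
    [Module.FaithfullyFlat (R ⧸ I) S₀] (hG : Gabber R I)
    (hPS : Function.Bijective (LinearMap.liftBaseChange (R ⧸ I) πS.toLinearMap))
    (ψ₀ : S₀ ⊗[R ⧸ I] A₀ ≃ₐc[S₀] MonoidAlgebra S₀ M) :
    ∃ (A : Type u) (_ : CommRing A) (_ : HopfAlgebra R A),
      Nonempty (S ⊗[R] A ≃ₐc[S] MonoidAlgebra S M) ∧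
        Nonempty (((R ⧸ I) ⊗[R] A) ≃ₐc[R ⧸ I] A₀) := by
  obtain ⟨hJS, -⟩ := goodRed I πS hG hPS
  obtain ⟨hJT, hliftT⟩ := goodRed I (redT I πS) hG (redT_form I πS hPS)
  obtain ⟨hJU, -⟩ := goodRed I (redU I πS) hG (redU_form I πS hPS)
  obtain ⟨g, hGL, hCU, hCC, hgπ⟩ := exists_datum_lift (algebraMap R (R ⧸ I)) (redSr πS)
    (redS_comm I πS) (gOf ψ₀) (gOf_GL ψ₀) (gOf_CU ψ₀) (gOf_CC ψ₀) hJS hJT hJU hliftT
  obtain ⟨A, iA, iH, e, he⟩ := exists_form_of_datum g hGL hCU hCC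
  exact ⟨A, iA, iH, ⟨e⟩, reduction_equiv I πS ψ₀ g hgπ e he⟩

end Core

section Final

/-- **SGA 3, X 3.? (lifting of isotrivial groups of multiplicative type)**: over a henselian pair
`(R, I)`, every isotrivial group of multiplicative type over `R/I` lifts to an isotrivial group of
multiplicative type over `R`. -/
theorem exists_isotrivial_lift (R : Type u) [CommRing R] (I : Ideal R) [HenselianRing R I]
    (A₀ : Type u) [CommRing A₀] [HopfAlgebra (R ⧸ I) A₀] (h0 : IsIsotrivial (R ⧸ I) A₀) :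
    ∃ (A : Type u) (_ : CommRing A) (_ : HopfAlgebra R A),
      IsIsotrivial R A ∧ Nonempty (((R ⧸ I) ⊗[R] A) ≃ₐc[R ⧸ I] A₀) := by
  obtain ⟨S₀', _, _, hét₀, hfin₀, hff₀, hd₀⟩ := h0
  haveI := hét₀
  haveI := hfin₀
  haveI := hff₀
  obtain ⟨S, _, _, hfin, hét, ⟨θ⟩⟩ := Groth.Agent.Helper7.FinEtaleLift.S0532_main R I S₀'
  haveI := hfin
  haveI := hét
  have hG : Gabber R I := Gabber.of_henselianRing inferInstance
  haveI hff0 : Module.FaithfullyFlat (R ⧸ I) ((R ⧸ I) ⊗[R] S) :=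
    Module.FaithfullyFlat.of_linearEquiv (R ⧸ I) S₀' θ.toLinearEquiv
  haveI hff : Module.FaithfullyFlat R S :=
    Groth.Agent.Lib.Helper6.IsoJac.faithfullyFlat_of_lift_jac I hG.1
      ((Algebra.TensorProduct.includeRight : S →ₐ[R] (R ⧸ I) ⊗[R] S) : S →+* (R ⧸ I) ⊗[R] S)
      (fun r => one_tmul_algebraMap (T := R ⧸ I) S r)
  have hd : IsDiag ((R ⧸ I) ⊗[R] S) (((R ⧸ I) ⊗[R] S) ⊗[R ⧸ I] A₀) :=
    Groth.Agent.Lib.Helper6.IsoNil.isDiag_transfer (R := R ⧸ I) (A := A₀)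
      (θ.symm : S₀' →+* (R ⧸ I) ⊗[R] S) (fun r => θ.symm.commutes r) hd₀
  obtain ⟨M, _, ⟨ψ₀⟩⟩ := hd
  obtain ⟨A, iA, iH, ⟨e⟩, hB⟩ := exists_lift_of_chart I
    (Algebra.TensorProduct.includeRight : S →ₐ[R] (R ⧸ I) ⊗[R] S) hG (redS_form I S) ψ₀
  exact ⟨A, iA, iH, ⟨S, inferInstance, inferInstance, hét, hfin, hff,
    ⟨M, inferInstance, ⟨e⟩⟩⟩, hB⟩

end Final

end Groth.Agent.Lib.Helper6.TwForm
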