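import Mathlib
import Groth.Prelude.Def_SGA3b
import Groth.Agent.Lib.Helper6.TwForm.TW8
import Groth.Agent.Lib.Helper6.FlatDef.FD5

/-!
# Twisted forms, part 9: lifting of finite isotrivial groups of multiplicative type along a
henselian pair; the case of a henselian local ring (SGA 3, X 4.6) (helper6)
-/

set_option autoImplicit false
set_option linter.unusedSectionVars false
set_option linter.unusedVariables false
set_option linter.unusedSimpArgs false
set_option linter.style.haveILetI false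
set_option linter.overlappingInstances false
set_option maxHeartbeats 800000
set_option synthInstance.maxHeartbeats 400000

universe u
open TensorProduct Coalgebra SGA3b
open Groth.Agent.Lib.Helper6.MultType Groth.Agent.Lib.Helper6.Isotriv
open Groth.Agent.Lib.Helper6.QIso
open Groth.Agent.Helper7.Hensel (Gabber)

namespace Groth.Agent.Lib.Helper6.TwForm

section FiniteM

variable {C : Type u} [CommRing C] {M : Type u} [CommGroup M]

/-- if the group algebra over a nontrivial ring is a finite module, the group is finite -/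
lemma finite_of_finite_monoidAlgebra [Nontrivial C] [Module.Finite C (MonoidAlgebra C M)] :
    Finite M :=
  Module.Finite.finite_basis
    ((Finsupp.basisSingleOne (R := C) (ι := M)).map (MonoidAlgebra.coeffLinearEquiv C).symm)

lemma finite_monoidAlgebra [Finite M] : Module.Finite C (MonoidAlgebra C M) :=
  Module.Finite.equiv (MonoidAlgebra.coeffLinearEquiv C (S := C) (M := M)).symm

end FiniteM

section CoreFinite

variable {R : Type u} [CommRing R] (I : Ideal R) {S S₀ : Type u} [CommRing S] [Algebra R S]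
  [CommRing S₀] [Algebra R S₀] [Algebra (R ⧸ I) S₀] [IsScalarTower R (R ⧸ I) S₀]
variable (πS : S →ₐ[R] S₀)
variable {M : Type u} [CommGroup M] {A₀ : Type u} [CommRing A₀] [HopfAlgebra (R ⧸ I) A₀]

theorem exists_lift_of_chart_finite [Module.Finite R S] [Module.FaithfullyFlat R S]
    [Module.FaithfullyFlat (R ⧸ I) S₀] [Nontrivial S₀] [Module.Finite (R ⧸ I) A₀]
    (hG : Gabber R I)
    (hPS : Function.Bijective (LinearMap.liftBaseChange (R ⧸ I) πS.toLinearMap))
    (ψ₀ : S₀ ⊗[R ⧸ I] A₀ ≃ₐc[S₀] MonoidAlgebra S₀ M) :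
    ∃ (A : Type u) (_ : CommRing A) (_ : HopfAlgebra R A), Module.Finite R A ∧
      Nonempty (S ⊗[R] A ≃ₐc[S] MonoidAlgebra S M) ∧
        Nonempty (((R ⧸ I) ⊗[R] A) ≃ₐc[R ⧸ I] A₀) := by
  obtain ⟨A, iA, iH, ⟨e⟩, hB⟩ := exists_lift_of_chart I πS hG hPS ψ₀
  refine ⟨A, iA, iH, ?_, ⟨e⟩, hB⟩
  haveI : Module.Finite S₀ (MonoidAlgebra S₀ M) :=
    Module.Finite.equiv ((ψ₀ : S₀ ⊗[R ⧸ I] A₀ ≃ₐ[S₀] MonoidAlgebra S₀ M).toLinearEquiv)
  haveI : Finite M := finite_of_finite_monoidAlgebra (C := S₀)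
  haveI : Module.Finite S (MonoidAlgebra S M) := finite_monoidAlgebra
  haveI : Module.Finite S (S ⊗[R] A) :=
    Module.Finite.equiv ((e : S ⊗[R] A ≃ₐ[S] MonoidAlgebra S M).toLinearEquiv).symm
  exact Module.Finite.of_finite_tensorProduct_of_faithfullyFlat S

end CoreFinite

section FinalFinite

/-- Over a henselian pair `(R, I)`, every finite isotrivial group of multiplicative type over `R/I`
lifts to a finite isotrivial group of multiplicative type over `R`. -/
theorem exists_isotrivial_lift_finite (R : Type u) [CommRing R] (I : Ideal R) [HenselianRing R I]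
    [Nontrivial (R ⧸ I)]
    (A₀ : Type u) [CommRing A₀] [HopfAlgebra (R ⧸ I) A₀] [Module.Finite (R ⧸ I) A₀]
    (h0 : IsIsotrivial (R ⧸ I) A₀) :
    ∃ (A : Type u) (_ : CommRing A) (_ : HopfAlgebra R A), Module.Finite R A ∧
      IsIsotrivial R A ∧ Nonempty (((R ⧸ I) ⊗[R] A) ≃ₐc[R ⧸ I] A₀) := by
  obtain ⟨S₀', _, _, hét₀, hfin₀, hff₀, hd₀⟩ := h0
  haveI := hét₀
  haveI := hfin₀
  haveI := hff₀
  obtain ⟨S, _, _, hfin, hét, ⟨θ⟩⟩ := Groth.Agent.Helper7.FinEtaleLift.S0532_main R I S₀'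
  haveI := hfin
  haveI := hét
  have hG : Gabber R I := Gabber.of_henselianRing inferInstance
  haveI hff0 : Module.FaithfullyFlat (R ⧸ I) ((R ⧸ I) ⊗[R] S) :=
    Module.FaithfullyFlat.of_linearEquiv (R ⧸ I) S₀' θ.toLinearEquiv
  haveI : Nontrivial ((R ⧸ I) ⊗[R] S) :=
    (FaithfulSMul.algebraMap_injective (R ⧸ I) ((R ⧸ I) ⊗[R] S)).nontrivial
  haveI hff : Module.FaithfullyFlat R S :=
    Groth.Agent.Lib.Helper6.IsoJac.faithfullyFlat_of_lift_jac I hG.1
      ((Algebra.TensorProduct.includeRight : S →ₐ[R] (R ⧸ I) ⊗[R] S) : S →+* (R ⧸ I) ⊗[R] S)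
      (fun r => one_tmul_algebraMap (T := R ⧸ I) S r)
  have hd : IsDiag ((R ⧸ I) ⊗[R] S) (((R ⧸ I) ⊗[R] S) ⊗[R ⧸ I] A₀) :=
    Groth.Agent.Lib.Helper6.IsoNil.isDiag_transfer (R := R ⧸ I) (A := A₀)
      (θ.symm : S₀' →+* (R ⧸ I) ⊗[R] S) (fun r => θ.symm.commutes r) hd₀
  obtain ⟨M, _, ⟨ψ₀⟩⟩ := hd
  obtain ⟨A, iA, iH, hfinA, ⟨e⟩, hB⟩ := exists_lift_of_chart_finite I
    (Algebra.TensorProduct.includeRight : S →ₐ[R] (R ⧸ I) ⊗[R] S) hG (redS_form I S) ψ₀
  exact ⟨A, iA, iH, hfinA, ⟨S, inferInstance, inferInstance, hét, hfin, hff,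
    ⟨M, inferInstance, ⟨e⟩⟩⟩, hB⟩

/-- **SGA 3, X 4.6** (existence part): over a henselian local ring, every finite group of
multiplicative type over the residue field lifts to a finite isotrivial group of multiplicative
type. -/
theorem exists_lift_of_henselianLocal (R : Type u) [CommRing R] [HenselianLocalRing R]
    (C₀ : Type u) [CommRing C₀] [HopfAlgebra (IsLocalRing.ResidueField R) C₀]
    [Module.Finite (IsLocalRing.ResidueField R) C₀]
    (h₀ : IsMultType (IsLocalRing.ResidueField R) C₀) :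
    ∃ (C : Type u) (_ : CommRing C) (_ : HopfAlgebra R C), Module.Finite R C ∧ IsIsotrivial R C ∧
      Nonempty ((IsLocalRing.ResidueField R ⊗[R] C) ≃ₐc[IsLocalRing.ResidueField R] C₀) := by
  have h0 : IsIsotrivial (IsLocalRing.ResidueField R) C₀ :=
    Groth.Agent.Lib.Helper6.FlatDef.isIsotrivial_of_field _ _ inferInstance h₀
  letI iHq : HopfAlgebra (R ⧸ IsLocalRing.maximalIdeal R) C₀ :=
    ‹HopfAlgebra (IsLocalRing.ResidueField R) C₀›
  haveI iFq : Module.Finite (R ⧸ IsLocalRing.maximalIdeal R) C₀ :=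
    ‹Module.Finite (IsLocalRing.ResidueField R) C₀›
  exact exists_isotrivial_lift_finite R (IsLocalRing.maximalIdeal R) C₀ h0

end FinalFinite

end Groth.Agent.Lib.Helper6.TwForm
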