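import Mathlib
import Groth.Prelude.Def_SGA3b
import Groth.Agent.Lib.Helper6.TwForm.TW2

/-!
# Twisted forms, part A1: finite decompositions `R ≃ ∏ S_c` of the base ring (helper6)

If `R → ∏_c S_c` is bijective (a decomposition of `Spec R` into finitely many clopen pieces), then
the family of base changes to the `S_c` is jointly faithful, and families of "forms" `D → N_c`
(with `S_c ⊗ D ≃ N_c`) behave like a single faithfully flat form.
-/

set_option autoImplicit false
set_option linter.unusedSectionVars false
set_option linter.unusedVariables false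
set_option linter.unusedSimpArgs false
set_option linter.style.haveILetI false
set_option linter.overlappingInstances false
set_option maxHeartbeats 800000
set_option synthInstance.maxHeartbeats 400000

universe u
open TensorProduct Coalgebra

namespace Groth.Agent.Lib.Helper6.TwForm
namespace Dec

section Base

variable {R : Type u} [CommRing R] {C : Type u} [Fintype C] [DecidableEq C]
variable {Sc : C → Type u} [∀ c, CommRing (Sc c)] [∀ c, Algebra R (Sc c)]

/-- the canonical map `R → ∏ S_c` as a linear map -/
noncomputable def crtLin (R : Type u) [CommRing R] {C : Type u} (Sc : C → Type u)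
    [∀ c, CommRing (Sc c)] [∀ c, Algebra R (Sc c)] : R →ₗ[R] (∀ c, Sc c) :=
  LinearMap.pi (fun c => Algebra.linearMap R (Sc c))

lemma crtLin_apply (r : R) (c : C) : crtLin R Sc r c = algebraMap R (Sc c) r := rfl

variable (hcrt : Function.Bijective (fun (r : R) (c : C) => algebraMap R (Sc c) r))

/-- the linear equivalence `R ≃ ∏ S_c` -/
noncomputable def crtEquiv : R ≃ₗ[R] (∀ c, Sc c) :=
  LinearEquiv.ofBijective (crtLin R Sc) hcrt

lemma crtEquiv_apply (r : R) (c : C) : crtEquiv hcrt r c = algebraMap R (Sc c) r := rfl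

/-- the section `S_c → R` of the `c`-th projection, supported on the `c`-th piece -/
noncomputable def jc (c : C) : Sc c →ₗ[R] R :=
  (crtEquiv hcrt).symm.toLinearMap ∘ₗ LinearMap.single R Sc c

lemma algebraMap_jc (c c' : C) (s : Sc c) :
    algebraMap R (Sc c') (jc hcrt c s) = (Pi.single c s : ∀ c, Sc c) c' := by
  have h := (crtEquiv hcrt).apply_symm_apply (Pi.single c s)
  have h2 := congrFun h c'
  rw [crtEquiv_apply] at h2
  exact h2

/-- the idempotent of the `c`-th piece -/
noncomputable def eps (c : C) : R := jc hcrt c 1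

lemma algebraMap_eps_self (c : C) : algebraMap R (Sc c) (eps hcrt c) = 1 := by
  rw [eps, algebraMap_jc, Pi.single_eq_same]

lemma algebraMap_eps_ne {c c' : C} (h : c ≠ c') : algebraMap R (Sc c') (eps hcrt c) = 0 := by
  rw [eps, algebraMap_jc, Pi.single_eq_of_ne h.symm]

lemma sum_eps : ∑ c, eps hcrt c = 1 := by
  apply hcrt.1
  funext c'
  show algebraMap R (Sc c') (∑ c, eps hcrt c) = algebraMap R (Sc c') 1
  rw [map_sum, map_one, Finset.sum_eq_single c']
  · exact algebraMap_eps_self hcrt c'
  · intro c _ hc
    exact algebraMap_eps_ne hcrt hc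
  · intro h
    exact absurd (Finset.mem_univ c') h

include hcrt in
lemma algebraMap_surjective (c : C) : Function.Surjective (algebraMap R (Sc c)) := by
  intro s
  refine ⟨jc hcrt c s, ?_⟩
  rw [algebraMap_jc, Pi.single_eq_same]

variable {P : Type u} [AddCommGroup P] [Module R P]

/-- `s ⊗ p ↦ j_c(s) • p` -/
noncomputable def mu (c : C) (P : Type u) [AddCommGroup P] [Module R P] : Sc c ⊗[R] P →ₗ[R] P :=
  TensorProduct.lift ((LinearMap.lsmul R P).comp (jc hcrt c))

lemma mu_tmul (c : C) (s : Sc c) (p : P) : mu hcrt c P (s ⊗ₜ[R] p) = jc hcrt c s • p := rfl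

include hcrt in
/-- The family of base changes to the pieces is jointly faithful. -/
theorem jointly_faithful (z : P) (h : ∀ c, (1 : Sc c) ⊗ₜ[R] z = 0) : z = 0 := by
  have h1 : ∀ c, eps hcrt c • z = 0 := fun c => by
    have h2 := congrArg (mu hcrt c P) (h c)
    rwa [mu_tmul, map_zero] at h2
  calc z = (1 : R) • z := (one_smul _ _).symm
    _ = (∑ c, eps hcrt c) • z := by rw [sum_eps]
    _ = ∑ c, eps hcrt c • z := Finset.sum_smul
    _ = 0 := Finset.sum_eq_zero (fun c _ => h1 c)

include hcrt in
/-- Every element of `S_c ⊗ P` is of the form `1 ⊗ x`. -/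
lemma one_tmul_surj (c : C) (w : Sc c ⊗[R] P) : ∃ x : P, w = (1 : Sc c) ⊗ₜ[R] x := by
  induction w using TensorProduct.induction_on with
  | zero => exact ⟨0, (TensorProduct.tmul_zero _ _).symm⟩
  | tmul s p =>
    obtain ⟨r, rfl⟩ := algebraMap_surjective hcrt c s
    exact ⟨r • p, by rw [Algebra.algebraMap_eq_smul_one, TensorProduct.smul_tmul]⟩
  | add x y hx hy =>
    obtain ⟨a, ha⟩ := hx
    obtain ⟨b, hb⟩ := hy
    exact ⟨a + b, by rw [ha, hb, TensorProduct.tmul_add]⟩

end Base

section Forms

variable {R : Type u} [CommRing R] {C : Type u} [Fintype C] [DecidableEq C]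
variable {Sc : C → Type u} [∀ c, CommRing (Sc c)] [∀ c, Algebra R (Sc c)]
variable (hcrt : Function.Bijective (fun (r : R) (c : C) => algebraMap R (Sc c) r))
variable {D : Type u} [AddCommGroup D] [Module R D]
variable {N : C → Type u} [∀ c, AddCommGroup (N c)] [∀ c, Module R (N c)]
  [∀ c, Module (Sc c) (N c)] [∀ c, IsScalarTower R (Sc c) (N c)]
variable (i : ∀ c, D →ₗ[R] N c)
variable (hi : ∀ c, Function.Bijective (LinearMap.liftBaseChange (Sc c) (i c)))

include hcrt hi in
/-- A family of forms is jointly injective. -/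
theorem fam_injective (x : D) (h : ∀ c, i c x = 0) : x = 0 := by
  apply jointly_faithful hcrt x
  intro c
  apply (hi c).1
  rw [LinearMap.liftBaseChange_tmul, h c, smul_zero, map_zero]

include hcrt hi in
/-- A family of forms is jointly surjective. -/
theorem fam_surjective (n : ∀ c, N c) : ∃ x : D, ∀ c, i c x = n c := by
  have hex : ∀ c, ∃ x : D, i c x = n c := by
    intro c
    obtain ⟨w, hw⟩ := (hi c).2 (n c)
    obtain ⟨x, rfl⟩ := one_tmul_surj hcrt c w
    rw [LinearMap.liftBaseChange_tmul, one_smul] at hw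
    exact ⟨x, hw⟩
  choose x hx using hex
  refine ⟨∑ c, eps hcrt c • x c, fun c' => ?_⟩
  rw [map_sum, Finset.sum_eq_single c']
  · rw [map_smul, ← algebraMap_smul (Sc c') (eps hcrt c') (i c' (x c')), algebraMap_eps_self,
      one_smul, hx]
  · intro c _ hc
    rw [map_smul, ← algebraMap_smul (Sc c') (eps hcrt c) (i c' (x c)), algebraMap_eps_ne hcrt hc,
      zero_smul]
  · intro h
    exact absurd (Finset.mem_univ c') h

end Forms

section Eval

variable {R : Type u} [CommRing R] {C : Type u} [Fintype C] [DecidableEq C]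
variable {Sc : C → Type u} [∀ c, CommRing (Sc c)] [∀ c, Algebra R (Sc c)]
variable (hcrt : Function.Bijective (fun (r : R) (c : C) => algebraMap R (Sc c) r))
variable (N : C → Type u) [∀ c, AddCommGroup (N c)] [∀ c, Module R (N c)]
  [∀ c, Module (Sc c) (N c)] [∀ c, IsScalarTower R (Sc c) (N c)]

lemma single_eq_eps_smul (c : C) (y : N c) :
    (Pi.single c y : ∀ c, N c) = eps hcrt c • (Pi.single c y : ∀ c, N c) := by
  funext c''
  by_cases h : c'' = c
  · subst h
    rw [Pi.smul_apply, Pi.single_eq_same, ← algebraMap_smul (Sc c'') (eps hcrt c'') y,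
      algebraMap_eps_self, one_smul]
  · rw [Pi.smul_apply, Pi.single_eq_of_ne h, smul_zero]

include hcrt in
/-- The projections of a product over the pieces form a family of forms. -/
theorem evalForm (c : C) : Function.Bijective
    (LinearMap.liftBaseChange (Sc c) (LinearMap.proj c : (∀ c, N c) →ₗ[R] N c)) := by
  constructor
  · rw [injective_iff_map_eq_zero]
    intro w hw
    obtain ⟨x, rfl⟩ := one_tmul_surj hcrt c w
    rw [LinearMap.liftBaseChange_tmul, one_smul, LinearMap.proj_apply] at hw
    rw [← Finset.univ_sum_single x, TensorProduct.tmul_sum]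
    apply Finset.sum_eq_zero
    intro c' _
    by_cases h : c' = c
    · subst h
      rw [hw, Pi.single_zero, TensorProduct.tmul_zero]
    · rw [single_eq_eps_smul hcrt N c' (x c'), ← TensorProduct.smul_tmul, Algebra.smul_def,
        algebraMap_eps_ne hcrt h, zero_mul, TensorProduct.zero_tmul]
  · intro n
    refine ⟨(1 : Sc c) ⊗ₜ[R] (Pi.single c n : ∀ c, N c), ?_⟩
    rw [LinearMap.liftBaseChange_tmul, one_smul, LinearMap.proj_apply, Pi.single_eq_same]

end Eval

end Dec
end Groth.Agent.Lib.Helper6.TwForm
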