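import Mathlib
import Groth.Prelude.Def_SGA3b
import Groth.Agent.Lib.Helper6.TwForm.TWA1

/-!
# Twisted forms, part A2: Hopf algebras over a finite product of rings (helper6)

If `R ≃ ∏ S_c`, a family of commutative Hopf algebras `N_c` over the `S_c` glues to a Hopf algebra
over `R` (their product), whose base change to `S_c` is `N_c`.
-/

set_option autoImplicit false
set_option linter.unusedSectionVars false
set_option linter.unusedVariables false
set_option linter.unusedSimpArgs false
set_option linter.style.haveILetI false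
set_option linter.overlappingInstances false
set_option maxHeartbeats 800000
set_option synthInstance.maxHeartbeats 400000

universe u
open TensorProduct Coalgebra
open Groth.Agent.Lib.Helper6.MultType

namespace Groth.Agent.Lib.Helper6.TwForm
namespace Dec

section OfForm

variable {R S : Type u} [CommRing R] [CommRing S] [Algebra R S]
variable {N : Type u} [CommRing N] [HopfAlgebra S N] [Algebra R N] [IsScalarTower R S N]
variable {D : Type u} [CommRing D] [Bialgebra R D] (i : D →ₐ[R] N)

/-- the comparison algebra map `S ⊗ D → N` -/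
noncomputable def thetaB : S ⊗[R] D →ₐ[S] N :=
  Algebra.TensorProduct.lift (Algebra.ofId S N) i (fun _ _ => Commute.all _ _)

lemma thetaB_tmul (s : S) (x : D) : thetaB (S := S) i (s ⊗ₜ[R] x) = s • i x := by
  rw [thetaB, Algebra.TensorProduct.lift_tmul, Algebra.ofId_apply, Algebra.smul_def]

lemma thetaB_eq (z : S ⊗[R] D) :
    thetaB (S := S) i z = LinearMap.liftBaseChange S i.toLinearMap z := by
  induction z using TensorProduct.induction_on with
  | zero => simp
  | tmul s x => rw [thetaB_tmul, LinearMap.liftBaseChange_tmul]; rfl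
  | add x y hx hy => rw [map_add, map_add, hx, hy]

/-- A bialgebra `D` over `R` with a structure-compatible map to `N` which is a form of `N` has base
change `N`. -/
theorem bialgEquiv_of_form
    (hθ : Function.Bijective (LinearMap.liftBaseChange S i.toLinearMap))
    (hΔ : ∀ x, kapA (S := S) i (comul (R := R) x) = comul (R := S) (i x))
    (hε : ∀ x, algebraMap R S (counit (R := R) x) = counit (R := S) (i x)) :
    Nonempty (S ⊗[R] D ≃ₐc[S] N) := by
  have hbij : Function.Bijective (thetaB (S := S) i) := by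
    have : (thetaB (S := S) i : S ⊗[R] D → N) = LinearMap.liftBaseChange S i.toLinearMap :=
      funext (thetaB_eq i)
    rw [this]
    exact hθ
  obtain ⟨e₀, he₀⟩ : ∃ e₀ : S ⊗[R] D ≃ₐ[S] N, ∀ z, e₀ z = thetaB (S := S) i z :=
    ⟨AlgEquiv.ofBijective (thetaB (S := S) i) hbij, fun z => rfl⟩
  have he₁ : ∀ (s : S) (x : D), e₀ (s ⊗ₜ[R] x) = s • i x := fun s x => by
    rw [he₀, thetaB_tmul]
  have key : ∀ w : D ⊗[R] D, Algebra.TensorProduct.map (e₀ : S ⊗[R] D →ₐ[S] N)
      (e₀ : S ⊗[R] D →ₐ[S] N) (T₀ R S D w) = kapA (S := S) i w := by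
    intro w
    induction w using TensorProduct.induction_on with
    | zero => simp
    | tmul u v =>
      rw [T₀_tmul, Algebra.TensorProduct.map_tmul, kapA_tmul]
      show e₀ ((1 : S) ⊗ₜ[R] u) ⊗ₜ[S] e₀ ((1 : S) ⊗ₜ[R] v) = _
      rw [he₁, he₁, one_smul, one_smul]
    | add x y hx hy => simp only [map_add, hx, hy]
  have h_counit : (Bialgebra.counitAlgHom S N).comp (e₀ : S ⊗[R] D →ₐ[S] N) =
      Bialgebra.counitAlgHom S (S ⊗[R] D) := by
    apply AlgHom.ext
    intro z
    show counit (R := S) (e₀ z) = counit (R := S) z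
    induction z using TensorProduct.induction_on with
    | zero => simp
    | tmul s x =>
      rw [he₁, map_smul, TensorProduct.counit_tmul, CommSemiring.counit_apply, ← hε,
        smul_eq_mul, Algebra.smul_def, mul_comm]
    | add x y hx hy => simp only [map_add, hx, hy]
  have h_comul : (Algebra.TensorProduct.map (e₀ : S ⊗[R] D →ₐ[S] N)
      (e₀ : S ⊗[R] D →ₐ[S] N)).comp (Bialgebra.comulAlgHom S (S ⊗[R] D)) =
      (Bialgebra.comulAlgHom S N).comp (e₀ : S ⊗[R] D →ₐ[S] N) := by
    apply AlgHom.ext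
    intro z
    show Algebra.TensorProduct.map (e₀ : S ⊗[R] D →ₐ[S] N) (e₀ : S ⊗[R] D →ₐ[S] N)
      (comul (R := S) z) = comul (R := S) (e₀ z)
    induction z using TensorProduct.induction_on with
    | zero => simp
    | tmul s x =>
      have h1 : s ⊗ₜ[R] x = s • ((1 : S) ⊗ₜ[R] x) := by
        rw [TensorProduct.smul_tmul', smul_eq_mul, mul_one]
      rw [h1, map_smul, map_smul, map_smul, map_smul, comul_one_tmul R S D x, key, hΔ,
        he₁, one_smul]
    | add x y hx hy => simp only [map_add, hx, hy]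
  exact ⟨BialgEquiv.ofAlgEquiv e₀ h_counit h_comul⟩

end OfForm

section HopfFam

variable {R : Type u} [CommRing R] {C : Type u} [Fintype C] [DecidableEq C]
variable {Sc : C → Type u} [∀ c, CommRing (Sc c)] [∀ c, Algebra R (Sc c)]
variable {N : C → Type u} [∀ c, CommRing (N c)] [∀ c, HopfAlgebra (Sc c) (N c)]
  [∀ c, Algebra R (N c)] [∀ c, IsScalarTower R (Sc c) (N c)]
variable {D : Type u} [CommRing D] [Algebra R D] (i : ∀ c, D →ₐ[R] N c)
variable (Δ : D →ₐ[R] D ⊗[R] D) (ε : D →ₐ[R] R) (σ : D →ₐ[R] D)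

/-- the glued bialgebra structure -/
@[reducible] noncomputable def formBialgebraFam
    (hi : ∀ x y : D, (∀ c, i c x = i c y) → x = y)
    (hκ₃ : ∀ z z' : D ⊗[R] (D ⊗[R] D),
      (∀ c, kap3 (S := Sc c) (i c) z = kap3 (S := Sc c) (i c) z') → z = z')
    (hΔ : ∀ c x, kapA (S := Sc c) (i c) (Δ x) = comul (R := Sc c) (i c x))
    (hε : ∀ c x, algebraMap R (Sc c) (ε x) = counit (R := Sc c) (i c x)) : Bialgebra R D :=
  Bialgebra.ofAlgHom Δ ε
    (by
      apply AlgHom.ext
      intro x
      apply hκ₃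
      intro c
      show kap3 (S := Sc c) (i c) (Algebra.TensorProduct.assoc R R R D D D
        (Algebra.TensorProduct.map Δ (AlgHom.id R D) (Δ x))) =
        kap3 (S := Sc c) (i c) (Algebra.TensorProduct.map (AlgHom.id R D) Δ (Δ x))
      rw [L3a (i c) Δ (hΔ c), L3b (i c) Δ (hΔ c), hΔ c, Coalgebra.coassoc_apply])
    (by
      apply AlgHom.ext
      intro x
      apply (Algebra.TensorProduct.lid R D).injective
      apply hi
      intro c
      show (i c) (Algebra.TensorProduct.lid R D
        (Algebra.TensorProduct.map ε (AlgHom.id R D) (Δ x))) =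
        (i c) (Algebra.TensorProduct.lid R D ((Algebra.TensorProduct.lid R D).symm x))
      rw [AlgEquiv.apply_symm_apply, L1 (i c) ε (hε c), hΔ c, Coalgebra.rTensor_counit_comul,
        TensorProduct.lid_tmul, one_smul])
    (by
      apply AlgHom.ext
      intro x
      apply (Algebra.TensorProduct.rid R R D).injective
      apply hi
      intro c
      show (i c) (Algebra.TensorProduct.rid R R D
        (Algebra.TensorProduct.map (AlgHom.id R D) ε (Δ x))) =
        (i c) (Algebra.TensorProduct.rid R R D ((Algebra.TensorProduct.rid R R D).symm x))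
      rw [AlgEquiv.apply_symm_apply, L2 (i c) ε (hε c), hΔ c, Coalgebra.lTensor_counit_comul,
        TensorProduct.rid_tmul, one_smul])

/-- the glued Hopf algebra structure -/
@[reducible] noncomputable def formHopfFam
    (hi : ∀ x y : D, (∀ c, i c x = i c y) → x = y)
    (hκ₃ : ∀ z z' : D ⊗[R] (D ⊗[R] D),
      (∀ c, kap3 (S := Sc c) (i c) z = kap3 (S := Sc c) (i c) z') → z = z')
    (hΔ : ∀ c x, kapA (S := Sc c) (i c) (Δ x) = comul (R := Sc c) (i c x))
    (hε : ∀ c x, algebraMap R (Sc c) (ε x) = counit (R := Sc c) (i c x))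
    (hσ : ∀ c x, i c (σ x) = HopfAlgebra.antipode (Sc c) (i c x)) : HopfAlgebra R D :=
  letI : Bialgebra R D := formBialgebraFam i Δ ε hi hκ₃ hΔ hε
  { antipode := σ.toLinearMap
    mul_antipode_rTensor_comul := by
      apply LinearMap.ext
      intro x
      apply hi
      intro c
      show (i c) (LinearMap.mul' R D (σ.toLinearMap.rTensor D (Δ x))) =
        (i c) (algebraMap R D (ε x))
      rw [L4 (i c) σ (hσ c), hΔ c, HopfAlgebra.mul_antipode_rTensor_comul_apply,
        AlgHom.commutes, ← hε c, ← IsScalarTower.algebraMap_apply]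
    mul_antipode_lTensor_comul := by
      apply LinearMap.ext
      intro x
      apply hi
      intro c
      show (i c) (LinearMap.mul' R D (σ.toLinearMap.lTensor D (Δ x))) =
        (i c) (algebraMap R D (ε x))
      rw [L5 (i c) σ (hσ c), hΔ c, HopfAlgebra.mul_antipode_lTensor_comul_apply,
        AlgHom.commutes, ← hε c, ← IsScalarTower.algebraMap_apply] }

variable (hcrt : Function.Bijective (fun (r : R) (c : C) => algebraMap R (Sc c) r))

include hcrt in
/-- Gluing of Hopf algebras over a finite decomposition of the base: general form. -/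
theorem exists_hopf_of_fam
    (hform : ∀ c, Function.Bijective (LinearMap.liftBaseChange (Sc c) (i c).toLinearMap)) :
    ∃ (A : Type u) (_ : CommRing A) (_ : HopfAlgebra R A),
      ∀ c, Nonempty (Sc c ⊗[R] A ≃ₐc[Sc c] N c) := by
  have hi : ∀ x y : D, (∀ c, i c x = i c y) → x = y := by
    intro x y h
    have h0 := fam_injective hcrt (fun c => (i c).toLinearMap) hform (x - y) (fun c => by
      show i c (x - y) = 0
      rw [map_sub, h c, sub_self])
    exact sub_eq_zero.mp h0
  have hκ₂f : ∀ c, Function.Bijective (LinearMap.liftBaseChange (Sc c)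
      (kap (Sc c) (i c).toLinearMap (i c).toLinearMap)) := fun c =>
    formTensor_bijective (i c).toLinearMap (i c).toLinearMap (hform c) (hform c)
  have hκAf : ∀ c, Function.Bijective (LinearMap.liftBaseChange (Sc c)
      (kapA (S := Sc c) (i c)).toLinearMap) := by
    intro c
    have h1 : (kapA (S := Sc c) (i c)).toLinearMap =
        kap (Sc c) (i c).toLinearMap (i c).toLinearMap :=
      LinearMap.ext fun z => kapA_eq_kap (i c) z
    rw [h1]
    exact hκ₂f c
  have hκ₃ : ∀ z z' : D ⊗[R] (D ⊗[R] D),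
      (∀ c, kap3 (S := Sc c) (i c) z = kap3 (S := Sc c) (i c) z') → z = z' := by
    intro z z' h
    have h0 := fam_injective hcrt (fun c => kap3 (S := Sc c) (i c))
      (fun c => formTensor_bijective (i c).toLinearMap (kapA (S := Sc c) (i c)).toLinearMap
        (hform c) (hκAf c)) (z - z') (fun c => by rw [map_sub, h c, sub_self])
    exact sub_eq_zero.mp h0
  -- the comparison map for tensor squares
  obtain ⟨Ξ, hΞdef⟩ : ∃ Ξ : D ⊗[R] D →ₐ[R] (∀ c, N c ⊗[Sc c] N c),
      ∀ z c, Ξ z c = kapA (S := Sc c) (i c) z :=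
    ⟨AlgHom.pi (fun c => kapA (S := Sc c) (i c)), fun z c => rfl⟩
  have hΞ : Function.Bijective Ξ := by
    constructor
    · intro z z' h
      have h0 := fam_injective hcrt (fun c => kap (Sc c) (i c).toLinearMap (i c).toLinearMap)
        hκ₂f (z - z') (fun c => by
          rw [map_sub, ← kapA_eq_kap, ← kapA_eq_kap, ← hΞdef, ← hΞdef, h, sub_self])
      exact sub_eq_zero.mp h0
    · intro w
      obtain ⟨z, hz⟩ := fam_surjective hcrt
        (fun c => kap (Sc c) (i c).toLinearMap (i c).toLinearMap) hκ₂f w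
      refine ⟨z, funext fun c => ?_⟩
      rw [hΞdef, kapA_eq_kap, hz]
  -- comultiplication
  obtain ⟨Δ, hΔ⟩ : ∃ Δ : D →ₐ[R] D ⊗[R] D,
      ∀ c x, kapA (S := Sc c) (i c) (Δ x) = comul (R := Sc c) (i c x) := by
    obtain ⟨F, hF⟩ : ∃ F : D →ₐ[R] (∀ c, N c ⊗[Sc c] N c),
        ∀ x c, F x c = comul (R := Sc c) (i c x) :=
      ⟨AlgHom.pi (fun c => ((Bialgebra.comulAlgHom (Sc c) (N c)).restrictScalars R).comp (i c)),
        fun x c => rfl⟩
    refine ⟨((AlgEquiv.ofBijective Ξ hΞ).symm : (∀ c, N c ⊗[Sc c] N c) →ₐ[R] D ⊗[R] D).comp F,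
      fun c x => ?_⟩
    have h1 := (AlgEquiv.ofBijective Ξ hΞ).apply_symm_apply (F x)
    have h2 := congrFun h1 c
    rw [AlgEquiv.ofBijective_apply, hΞdef, hF] at h2
    exact h2
  -- counit
  obtain ⟨Υ, hΥdef⟩ : ∃ Υ : R →ₐ[R] (∀ c, Sc c), ∀ r c, Υ r c = algebraMap R (Sc c) r :=
    ⟨Algebra.ofId R (∀ c, Sc c), fun r c => rfl⟩
  have hΥ : Function.Bijective Υ := by
    have : (Υ : R → (∀ c, Sc c)) = fun (r : R) (c : C) => algebraMap R (Sc c) r :=
      funext fun r => funext fun c => hΥdef r c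
    rw [this]
    exact hcrt
  obtain ⟨ε, hε⟩ : ∃ ε : D →ₐ[R] R,
      ∀ c x, algebraMap R (Sc c) (ε x) = counit (R := Sc c) (i c x) := by
    obtain ⟨F, hF⟩ : ∃ F : D →ₐ[R] (∀ c, Sc c), ∀ x c, F x c = counit (R := Sc c) (i c x) :=
      ⟨AlgHom.pi (fun c => ((Bialgebra.counitAlgHom (Sc c) (N c)).restrictScalars R).comp (i c)),
        fun x c => rfl⟩
    refine ⟨((AlgEquiv.ofBijective Υ hΥ).symm : (∀ c, Sc c) →ₐ[R] R).comp F, fun c x => ?_⟩
    have h1 := (AlgEquiv.ofBijective Υ hΥ).apply_symm_apply (F x)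
    have h2 := congrFun h1 c
    rw [AlgEquiv.ofBijective_apply, hΥdef, hF] at h2
    exact h2
  -- antipode
  obtain ⟨J, hJdef⟩ : ∃ J : D →ₐ[R] (∀ c, N c), ∀ x c, J x c = i c x :=
    ⟨AlgHom.pi i, fun x c => rfl⟩
  have hJ : Function.Bijective J := by
    constructor
    · intro x y h
      apply hi
      intro c
      rw [← hJdef, ← hJdef, h]
    · intro n
      obtain ⟨x, hx⟩ := fam_surjective hcrt (fun c => (i c).toLinearMap) hform n
      exact ⟨x, funext fun c => by rw [hJdef]; exact hx c⟩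
  obtain ⟨σ, hσ⟩ : ∃ σ : D →ₐ[R] D,
      ∀ c x, i c (σ x) = HopfAlgebra.antipode (Sc c) (i c x) := by
    obtain ⟨F, hF⟩ : ∃ F : D →ₐ[R] (∀ c, N c),
        ∀ x c, F x c = HopfAlgebra.antipode (Sc c) (i c x) :=
      ⟨AlgHom.pi (fun c => ((HopfAlgebra.antipodeAlgHom (Sc c) (N c)).restrictScalars R).comp
        (i c)), fun x c => rfl⟩
    refine ⟨((AlgEquiv.ofBijective J hJ).symm : (∀ c, N c) →ₐ[R] D).comp F, fun c x => ?_⟩
    have h1 := (AlgEquiv.ofBijective J hJ).apply_symm_apply (F x)
    have h2 := congrFun h1 c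
    rw [AlgEquiv.ofBijective_apply, hJdef, hF] at h2
    exact h2
  letI instH : HopfAlgebra R D := formHopfFam i Δ ε σ hi hκ₃ hΔ hε hσ
  refine ⟨D, inferInstance, instH, fun c => ?_⟩
  exact bialgEquiv_of_form (i c) (hform c) (fun x => hΔ c x) (fun x => hε c x)

end HopfFam

section HopfPi

variable {R : Type u} [CommRing R] {C : Type u} [Fintype C] [DecidableEq C]
variable {Sc : C → Type u} [∀ c, CommRing (Sc c)] [∀ c, Algebra R (Sc c)]
variable (hcrt : Function.Bijective (fun (r : R) (c : C) => algebraMap R (Sc c) r))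
variable (N : C → Type u) [∀ c, CommRing (N c)] [∀ c, HopfAlgebra (Sc c) (N c)]

include hcrt in
/-- Gluing of Hopf algebras over a finite decomposition of the base. -/
theorem exists_hopf_pi :
    ∃ (A : Type u) (_ : CommRing A) (_ : HopfAlgebra R A),
      ∀ c, Nonempty (Sc c ⊗[R] A ≃ₐc[Sc c] N c) := by
  letI aR : ∀ c, Algebra R (N c) := fun c =>
    ((algebraMap (Sc c) (N c)).comp (algebraMap R (Sc c))).toAlgebra
  haveI tR : ∀ c, IsScalarTower R (Sc c) (N c) := fun c => IsScalarTower.of_algebraMap_eq' rfl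
  exact exists_hopf_of_fam (D := ∀ c, N c) (fun c => Pi.evalAlgHom R N c) hcrt
    (fun c => evalForm hcrt N c)

end HopfPi

end Dec
end Groth.Agent.Lib.Helper6.TwForm
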