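import Mathlib
import Groth.Prelude.Def_SGA3b
import Groth.Agent.Lib.Helper6.TwForm.TWA2

/-!
# Twisted forms, part A3: bialgebras over a finite product of rings are determined by their
pieces; the pieces are localisations; decomposition of a quotient (helper6)
-/

set_option autoImplicit false
set_option linter.unusedSectionVars false
set_option linter.unusedVariables false
set_option linter.unusedSimpArgs false
set_option linter.style.haveILetI false
set_option linter.overlappingInstances false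
set_option maxHeartbeats 800000
set_option synthInstance.maxHeartbeats 400000

universe u
open TensorProduct Coalgebra
open Groth.Agent.Lib.Helper6.MultType

namespace Groth.Agent.Lib.Helper6.TwForm
namespace Dec

section MkOne

variable {R S : Type u} [CommRing R] [CommRing S] [Algebra R S]
variable (P : Type u) [AddCommGroup P] [Module R P]

/-- `x ↦ 1 ⊗ x` as an `R`-linear map -/
noncomputable def mkOne : P →ₗ[R] S ⊗[R] P := TensorProduct.mk R S P 1

lemma mkOne_apply (x : P) : mkOne (S := S) P x = (1 : S) ⊗ₜ[R] x := rfl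

lemma liftBaseChange_mkOne (z : S ⊗[R] P) :
    LinearMap.liftBaseChange S (mkOne (S := S) P) z = z := by
  induction z using TensorProduct.induction_on with
  | zero => simp
  | tmul s x =>
    rw [LinearMap.liftBaseChange_tmul, mkOne_apply, TensorProduct.smul_tmul', smul_eq_mul, mul_one]
  | add x y hx hy => rw [map_add, hx, hy]

lemma mkOne_form :
    Function.Bijective (LinearMap.liftBaseChange S (mkOne (R := R) (S := S) P)) := by
  have h : (LinearMap.liftBaseChange S (mkOne (R := R) (S := S) P) : S ⊗[R] P → S ⊗[R] P) = id :=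
    funext (liftBaseChange_mkOne (R := R) (S := S) P)
  rw [h]
  exact Function.bijective_id

end MkOne

section Local

variable {R : Type u} [CommRing R] {C : Type u} [Fintype C] [DecidableEq C]
variable {Sc : C → Type u} [∀ c, CommRing (Sc c)] [∀ c, Algebra R (Sc c)]
variable (hcrt : Function.Bijective (fun (r : R) (c : C) => algebraMap R (Sc c) r))

/-- the map `B' → ∏ S_c ⊗ B'` -/
noncomputable def Om (Sc : C → Type u) [∀ c, CommRing (Sc c)] [∀ c, Algebra R (Sc c)]
    (B' : Type u) [CommRing B'] [Algebra R B'] : B' →ₐ[R] (∀ c, Sc c ⊗[R] B') :=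
  AlgHom.pi (fun c => (Algebra.TensorProduct.includeRight : B' →ₐ[R] Sc c ⊗[R] B'))

lemma Om_apply (B' : Type u) [CommRing B'] [Algebra R B'] (x : B') (c : C) :
    Om Sc B' x c = (1 : Sc c) ⊗ₜ[R] x := rfl

include hcrt in
lemma Om_bijective (B' : Type u) [CommRing B'] [Algebra R B'] :
    Function.Bijective (Om (R := R) Sc B') := by
  constructor
  · intro x y h
    have h0 := jointly_faithful hcrt (x - y) (fun c => by
      have h1 := congrFun h c
      rw [Om_apply, Om_apply] at h1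
      rw [TensorProduct.tmul_sub, h1, sub_self])
    exact sub_eq_zero.mp h0
  · intro n
    obtain ⟨x, hx⟩ := fam_surjective hcrt (fun c => mkOne (S := Sc c) B')
      (fun c => mkOne_form (S := Sc c) B') n
    exact ⟨x, funext fun c => by rw [Om_apply]; exact hx c⟩

variable {B B' : Type u} [CommRing B] [CommRing B'] [Bialgebra R B] [Bialgebra R B']

lemma T₀_eq_kap (S : Type u) [CommRing S] [Algebra R S] (z : B' ⊗[R] B') :
    T₀ R S B' z = kap S (mkOne (S := S) B') (mkOne (S := S) B') z := by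
  induction z using TensorProduct.induction_on with
  | zero => simp
  | tmul u v => rw [T₀_tmul, kap_tmul, mkOne_apply, mkOne_apply]
  | add x y hx hy => rw [map_add, map_add, hx, hy]

include hcrt in
lemma T₀_fam_injective (w w' : B' ⊗[R] B')
    (h : ∀ c, T₀ R (Sc c) B' w = T₀ R (Sc c) B' w') : w = w' := by
  have h0 := fam_injective hcrt
    (fun c => kap (Sc c) (mkOne (S := Sc c) B') (mkOne (S := Sc c) B'))
    (fun c => formTensor_bijective (mkOne (S := Sc c) B') (mkOne (S := Sc c) B')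
      (mkOne_form (S := Sc c) B') (mkOne_form (S := Sc c) B')) (w - w') (fun c => by
        rw [map_sub, ← T₀_eq_kap, ← T₀_eq_kap, h c, sub_self])
  exact sub_eq_zero.mp h0

include hcrt in
/-- Two bialgebras over `R ≃ ∏ S_c` which are isomorphic over every `S_c` are isomorphic. -/
theorem bialgEquiv_of_local (φ : ∀ c, Sc c ⊗[R] B ≃ₐc[Sc c] Sc c ⊗[R] B') :
    Nonempty (B ≃ₐc[R] B') := by
  obtain ⟨F, hF⟩ : ∃ F : B →ₐ[R] (∀ c, Sc c ⊗[R] B'),
      ∀ b c, F b c = φ c ((1 : Sc c) ⊗ₜ[R] b) :=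
    ⟨AlgHom.pi (fun c => (((φ c).toAlgEquiv : Sc c ⊗[R] B →ₐ[Sc c] Sc c ⊗[R] B').restrictScalars
      R).comp (Algebra.TensorProduct.includeRight : B →ₐ[R] Sc c ⊗[R] B)), fun b c => rfl⟩
  obtain ⟨G, hG⟩ : ∃ G : B' →ₐ[R] (∀ c, Sc c ⊗[R] B),
      ∀ b c, G b c = (φ c).symm ((1 : Sc c) ⊗ₜ[R] b) :=
    ⟨AlgHom.pi (fun c => (((φ c).symm.toAlgEquiv :
      Sc c ⊗[R] B' →ₐ[Sc c] Sc c ⊗[R] B).restrictScalars
      R).comp (Algebra.TensorProduct.includeRight : B' →ₐ[R] Sc c ⊗[R] B')), fun b c => rfl⟩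
  obtain ⟨ψ, hψ⟩ : ∃ ψ : B →ₐ[R] B',
      ∀ b c, (1 : Sc c) ⊗ₜ[R] ψ b = φ c ((1 : Sc c) ⊗ₜ[R] b) := by
    refine ⟨((AlgEquiv.ofBijective (Om Sc B') (Om_bijective hcrt B')).symm :
      (∀ c, Sc c ⊗[R] B') →ₐ[R] B').comp F, fun b c => ?_⟩
    have h1 := (AlgEquiv.ofBijective (Om Sc B') (Om_bijective hcrt B')).apply_symm_apply (F b)
    have h2 := congrFun h1 c
    rw [AlgEquiv.ofBijective_apply, Om_apply, hF] at h2
    exact h2
  obtain ⟨ψ', hψ'⟩ : ∃ ψ' : B' →ₐ[R] B,
      ∀ b c, (1 : Sc c) ⊗ₜ[R] ψ' b = (φ c).symm ((1 : Sc c) ⊗ₜ[R] b) := by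
    refine ⟨((AlgEquiv.ofBijective (Om Sc B) (Om_bijective hcrt B)).symm :
      (∀ c, Sc c ⊗[R] B) →ₐ[R] B).comp G, fun b c => ?_⟩
    have h1 := (AlgEquiv.ofBijective (Om Sc B) (Om_bijective hcrt B)).apply_symm_apply (G b)
    have h2 := congrFun h1 c
    rw [AlgEquiv.ofBijective_apply, Om_apply, hG] at h2
    exact h2
  have h12 : ∀ b, ψ' (ψ b) = b := by
    intro b
    have h0 := jointly_faithful hcrt (ψ' (ψ b) - b) (fun c => by
      rw [TensorProduct.tmul_sub, hψ', hψ, BialgEquiv.symm_apply_apply, sub_self])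
    exact sub_eq_zero.mp h0
  have h21 : ∀ b, ψ (ψ' b) = b := by
    intro b
    have h0 := jointly_faithful hcrt (ψ (ψ' b) - b) (fun c => by
      rw [TensorProduct.tmul_sub, hψ, hψ', BialgEquiv.apply_symm_apply, sub_self])
    exact sub_eq_zero.mp h0
  obtain ⟨e₀, he₀⟩ : ∃ e₀ : B ≃ₐ[R] B', ∀ b, e₀ b = ψ b :=
    ⟨AlgEquiv.ofAlgHom ψ ψ' (AlgHom.ext h21) (AlgHom.ext h12), fun b => rfl⟩
  have key : ∀ (c : C) (w : B ⊗[R] B), T₀ R (Sc c) B'
      (Algebra.TensorProduct.map (e₀ : B →ₐ[R] B') (e₀ : B →ₐ[R] B') w) =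
      TensorProduct.map ((φ c : Sc c ⊗[R] B →ₗ[Sc c] Sc c ⊗[R] B'))
        ((φ c : Sc c ⊗[R] B →ₗ[Sc c] Sc c ⊗[R] B')) (T₀ R (Sc c) B w) := by
    intro c w
    induction w using TensorProduct.induction_on with
    | zero => simp
    | tmul u v =>
      rw [Algebra.TensorProduct.map_tmul, T₀_tmul, T₀_tmul, TensorProduct.map_tmul]
      show ((1 : Sc c) ⊗ₜ[R] e₀ u) ⊗ₜ[Sc c] ((1 : Sc c) ⊗ₜ[R] e₀ v) =
        φ c ((1 : Sc c) ⊗ₜ[R] u) ⊗ₜ[Sc c] φ c ((1 : Sc c) ⊗ₜ[R] v)
      rw [he₀, he₀, hψ, hψ]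
    | add x y hx hy => simp only [map_add, hx, hy]
  have h_counit : (Bialgebra.counitAlgHom R B').comp (e₀ : B →ₐ[R] B') =
      Bialgebra.counitAlgHom R B := by
    apply AlgHom.ext
    intro b
    show counit (R := R) (e₀ b) = counit (R := R) b
    apply hcrt.1
    funext c
    show algebraMap R (Sc c) (counit (R := R) (e₀ b)) = algebraMap R (Sc c) (counit (R := R) b)
    rw [← counit_one_tmul R (Sc c) B' (e₀ b), ← counit_one_tmul R (Sc c) B b, he₀, hψ,
      CoalgHomClass.counit_comp_apply]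
  have h_comul : (Algebra.TensorProduct.map (e₀ : B →ₐ[R] B') (e₀ : B →ₐ[R] B')).comp
      (Bialgebra.comulAlgHom R B) = (Bialgebra.comulAlgHom R B').comp (e₀ : B →ₐ[R] B') := by
    apply AlgHom.ext
    intro b
    show Algebra.TensorProduct.map (e₀ : B →ₐ[R] B') (e₀ : B →ₐ[R] B') (comul (R := R) b) =
      comul (R := R) (e₀ b)
    apply T₀_fam_injective hcrt
    intro c
    have h1 : TensorProduct.map ((φ c : Sc c ⊗[R] B →ₗ[Sc c] Sc c ⊗[R] B'))
        ((φ c : Sc c ⊗[R] B →ₗ[Sc c] Sc c ⊗[R] B')) (comul (R := Sc c) ((1 : Sc c) ⊗ₜ[R] b)) =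
        comul (R := Sc c) (φ c ((1 : Sc c) ⊗ₜ[R] b)) :=
      CoalgHomClass.map_comp_comul_apply (φ c) _
    rw [key, ← comul_one_tmul R (Sc c) B b, h1, ← hψ, ← he₀, comul_one_tmul R (Sc c) B' (e₀ b)]
  exact ⟨BialgEquiv.ofAlgEquiv e₀ h_counit h_comul⟩

end Local

section Pieces

variable {R : Type u} [CommRing R] {C : Type u} [Fintype C] [DecidableEq C]
variable {Sc : C → Type u} [∀ c, CommRing (Sc c)] [∀ c, Algebra R (Sc c)]
variable (hcrt : Function.Bijective (fun (r : R) (c : C) => algebraMap R (Sc c) r))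

lemma eps_mul_eq {c : C} {x y : R} (h : algebraMap R (Sc c) x = algebraMap R (Sc c) y) :
    eps hcrt c * x = eps hcrt c * y := by
  apply hcrt.1
  funext c'
  show algebraMap R (Sc c') (eps hcrt c * x) = algebraMap R (Sc c') (eps hcrt c * y)
  rw [map_mul, map_mul]
  by_cases hcc : c = c'
  · subst hcc
    rw [h]
  · rw [algebraMap_eps_ne hcrt hcc, zero_mul, zero_mul]

lemma eps_idem (c : C) : IsIdempotentElem (eps hcrt c) := by
  have h := eps_mul_eq hcrt (c := c) (x := eps hcrt c) (y := 1) (by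
    rw [algebraMap_eps_self, map_one])
  rw [mul_one] at h
  exact h

/-- The pieces of a finite decomposition are localisations at the idempotents. -/
lemma isLocalization_away_eps (c : C) : IsLocalization.Away (eps hcrt c) (Sc c) := by
  apply IsLocalization.away_of_isIdempotentElem_of_mul (eps_idem hcrt c)
  · intro x y
    constructor
    · intro h
      exact eps_mul_eq hcrt h
    · intro h
      have h1 := congrArg (algebraMap R (Sc c)) h
      rwa [map_mul, map_mul, algebraMap_eps_self, one_mul, one_mul] at h1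
  · exact algebraMap_surjective hcrt c

include hcrt in
/-- A finite decomposition of `R` induces one of `R ⧸ I`. -/
theorem hcrt_quot (I : Ideal R) : Function.Bijective (fun (k : R ⧸ I) (c : C) =>
    algebraMap (R ⧸ I) (Sc c ⧸ I.map (algebraMap R (Sc c))) k) := by
  constructor
  · intro k k' h
    obtain ⟨r, rfl⟩ := Ideal.Quotient.mk_surjective k
    obtain ⟨r', rfl⟩ := Ideal.Quotient.mk_surjective k'
    rw [Ideal.Quotient.eq]
    have hc : ∀ c, eps hcrt c * (r - r') ∈ I := by
      intro c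
      have h1 : Ideal.Quotient.mk (I.map (algebraMap R (Sc c))) (algebraMap R (Sc c) r) =
          Ideal.Quotient.mk (I.map (algebraMap R (Sc c))) (algebraMap R (Sc c) r') :=
        congrFun h c
      rw [Ideal.Quotient.eq, ← map_sub] at h1
      obtain ⟨y, hy, hyx⟩ := (Ideal.mem_map_iff_of_surjective (algebraMap R (Sc c))
        (algebraMap_surjective hcrt c)).mp h1
      rw [eps_mul_eq hcrt hyx.symm]
      exact I.mul_mem_left _ hy
    have hsum : r - r' = ∑ c, eps hcrt c * (r - r') := by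
      rw [← Finset.sum_mul, sum_eps, one_mul]
    rw [hsum]
    exact I.sum_mem (fun c _ => hc c)
  · intro n
    have hs : ∀ c, ∃ s : Sc c, Ideal.Quotient.mk (I.map (algebraMap R (Sc c))) s = n c :=
      fun c => Ideal.Quotient.mk_surjective (n c)
    choose s hs using hs
    obtain ⟨r, hr⟩ := hcrt.2 s
    refine ⟨Ideal.Quotient.mk I r, funext fun c => ?_⟩
    show Ideal.Quotient.mk (I.map (algebraMap R (Sc c))) (algebraMap R (Sc c) r) = n c
    rw [← hs c, ← hr]

end Pieces

end Dec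
end Groth.Agent.Lib.Helper6.TwForm
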