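import Mathlib
import Groth.Prelude.Def_SGA3b
import Groth.Agent.Lib.Helper6.TwForm.TW8
import Groth.Agent.Lib.Helper6.EtLift.ELa

/-!
# Twisted forms, part A4: lifting of quasi-isotrivial groups of multiplicative type of constant
type through a nil ideal (helper6)
-/

set_option autoImplicit false
set_option linter.unusedSectionVars false
set_option linter.unusedVariables false
set_option linter.unusedSimpArgs false
set_option linter.style.haveILetI false
set_option linter.overlappingInstances false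
set_option maxHeartbeats 800000
set_option synthInstance.maxHeartbeats 400000

universe u
open TensorProduct Coalgebra SGA3b
open Groth.Agent.Lib.Helper6.MultType Groth.Agent.Lib.Helper6.Isotriv
open Groth.Agent.Lib.Helper6.QIso

namespace Groth.Agent.Lib.Helper6.TwForm

section GoodRedNil

variable {R : Type u} [CommRing R] (I : Ideal R)
variable {C C₀ : Type u} [CommRing C] [Algebra R C] [CommRing C₀] [Algebra R C₀]
  [Algebra (R ⧸ I) C₀] [IsScalarTower R (R ⧸ I) C₀]
variable (π : C →ₐ[R] C₀)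

lemma redHom_surjective : Function.Surjective (redHom I R C) := by
  intro z
  induction z using TensorProduct.induction_on with
  | zero => exact ⟨0, map_zero _⟩
  | tmul c k =>
    obtain ⟨r, rfl⟩ := Ideal.Quotient.mk_surjective k
    refine ⟨r • c, ?_⟩
    rw [redHom_apply, TensorProduct.smul_tmul]
    congr 1
    rw [Algebra.smul_def, mul_one]
    rfl
  | add x y hx hy =>
    obtain ⟨a, rfl⟩ := hx
    obtain ⟨b, rfl⟩ := hy
    exact ⟨a + b, map_add _ _ _⟩

include I in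
lemma isNilpotent_of_redHom_eq_zero (hI : ∀ x ∈ I, IsNilpotent x) (x : C)
    (hx : redHom I R C x = 0) : IsNilpotent x := by
  have h1 := (redHom_eq_zero_iff I R C x).mp hx
  have h2 : I.map (algebraMap R C) ≤ nilradical C := by
    rw [Ideal.map_le_iff_le_comap]
    intro y hy
    rw [Ideal.mem_comap, mem_nilradical]
    exact (hI y hy).map (algebraMap R C)
  exact mem_nilradical.mp (h2 h1)

/-- A reduction modulo a nil ideal has kernel in the Jacobson radical and lifts idempotents. -/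
theorem goodRed_nil (hI : ∀ x ∈ I, IsNilpotent x)
    (hπ : Function.Bijective (LinearMap.liftBaseChange (R ⧸ I) π.toLinearMap)) :
    (∀ x, π x = 0 → x ∈ Ideal.jacobson (⊥ : Ideal C)) ∧
      (∀ e0 : C₀, IsIdempotentElem e0 → ∃ e : C, IsIdempotentElem e ∧ π e = e0) := by
  have hb := Lam_bijective I π hπ
  constructor
  · intro x hx
    have h0 : redHom I R C x = 0 := by
      apply hb.1
      rw [Lam_redHom, hx, map_zero]
    obtain ⟨n, hn⟩ := isNilpotent_of_redHom_eq_zero I hI x h0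
    exact Ideal.radical_le_jacobson ⟨n, by rw [hn]; exact Ideal.zero_mem _⟩
  · intro e0 he0
    obtain ⟨z, hz⟩ := hb.2 e0
    have hzi : IsIdempotentElem z := by
      apply hb.1
      show Lam I π (z * z) = Lam I π z
      rw [map_mul, hz, he0.eq]
    obtain ⟨e, he, hez⟩ := exists_isIdempotentElem_eq_of_ker_isNilpotent
      ((redHom I R C).toRingHom) (fun x hx => isNilpotent_of_redHom_eq_zero I hI x hx) z
      (by
        obtain ⟨y, hy⟩ := redHom_surjective I (C := C) z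
        exact ⟨y, hy⟩) hzi
    have hez' : redHom I R C e = z := hez
    exact ⟨e, he, by rw [← Lam_redHom I π e, hez', hz]⟩

end GoodRedNil

section CoreNil

variable {R : Type u} [CommRing R] (I : Ideal R) {S S₀ : Type u} [CommRing S] [Algebra R S]
  [CommRing S₀] [Algebra R S₀] [Algebra (R ⧸ I) S₀] [IsScalarTower R (R ⧸ I) S₀]
variable (πS : S →ₐ[R] S₀)
variable {M : Type u} [CommGroup M] {A₀ : Type u} [CommRing A₀] [HopfAlgebra (R ⧸ I) A₀]

/-- Lifting of a twisted form of a group algebra through a nil ideal, given a lift of the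
splitting algebra. -/
theorem exists_lift_of_chart_nil [Module.FaithfullyFlat R S]
    [Module.FaithfullyFlat (R ⧸ I) S₀] (hI : ∀ x ∈ I, IsNilpotent x)
    (hPS : Function.Bijective (LinearMap.liftBaseChange (R ⧸ I) πS.toLinearMap))
    (ψ₀ : S₀ ⊗[R ⧸ I] A₀ ≃ₐc[S₀] MonoidAlgebra S₀ M) :
    ∃ (A : Type u) (_ : CommRing A) (_ : HopfAlgebra R A),
      Nonempty (S ⊗[R] A ≃ₐc[S] MonoidAlgebra S M) ∧
        Nonempty (((R ⧸ I) ⊗[R] A) ≃ₐc[R ⧸ I] A₀) := by
  obtain ⟨hJS, -⟩ := goodRed_nil I πS hI hPS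
  obtain ⟨hJT, hliftT⟩ := goodRed_nil I (redT I πS) hI (redT_form I πS hPS)
  obtain ⟨hJU, -⟩ := goodRed_nil I (redU I πS) hI (redU_form I πS hPS)
  obtain ⟨g, hGL, hCU, hCC, hgπ⟩ := exists_datum_lift (algebraMap R (R ⧸ I)) (redSr πS)
    (redS_comm I πS) (gOf ψ₀) (gOf_GL ψ₀) (gOf_CU ψ₀) (gOf_CC ψ₀) hJS hJT hJU hliftT
  obtain ⟨A, iA, iH, e, he⟩ := exists_form_of_datum g hGL hCU hCC
  exact ⟨A, iA, iH, ⟨e⟩, reduction_equiv I πS ψ₀ g hgπ e he⟩

end CoreNil

section FinalNil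

/-- Lifting of quasi-isotrivial groups of multiplicative type of constant type through a nil
ideal. -/
theorem exists_qiconst_lift (R : Type u) [CommRing R] (I : Ideal R)
    (hI : ∀ x ∈ I, IsNilpotent x)
    (A₀ : Type u) [CommRing A₀] [HopfAlgebra (R ⧸ I) A₀]
    (W : Type u) [CommRing W] [Algebra (R ⧸ I) W] [Algebra.Etale (R ⧸ I) W]
    [Module.FaithfullyFlat (R ⧸ I) W] (hd₀ : IsDiag W (W ⊗[R ⧸ I] A₀)) :
    ∃ (A : Type u) (_ : CommRing A) (_ : HopfAlgebra R A),
      IsQuasiIsotrivialConst R A ∧ Nonempty (((R ⧸ I) ⊗[R] A) ≃ₐc[R ⧸ I] A₀) := by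
  obtain ⟨S, _, _, hét, ⟨θ⟩⟩ := Groth.Agent.Lib.Helper6.EtLift.exists_etale_lift R I W
  haveI := hét
  have hjac : I ≤ Ideal.jacobson ⊥ := by
    intro x hx
    obtain ⟨n, hn⟩ := hI x hx
    exact Ideal.radical_le_jacobson ⟨n, by rw [hn]; exact Ideal.zero_mem _⟩
  haveI hff0 : Module.FaithfullyFlat (R ⧸ I) ((R ⧸ I) ⊗[R] S) :=
    Module.FaithfullyFlat.of_linearEquiv (R ⧸ I) W θ.toLinearEquiv
  haveI hff : Module.FaithfullyFlat R S :=
    Groth.Agent.Lib.Helper6.IsoJac.faithfullyFlat_of_lift_jac I hjac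
      ((Algebra.TensorProduct.includeRight : S →ₐ[R] (R ⧸ I) ⊗[R] S) : S →+* (R ⧸ I) ⊗[R] S)
      (fun r => one_tmul_algebraMap (T := R ⧸ I) S r)
  have hd : IsDiag ((R ⧸ I) ⊗[R] S) (((R ⧸ I) ⊗[R] S) ⊗[R ⧸ I] A₀) :=
    Groth.Agent.Lib.Helper6.IsoNil.isDiag_transfer (R := R ⧸ I) (A := A₀)
      (θ.symm : W →+* (R ⧸ I) ⊗[R] S) (fun r => θ.symm.commutes r) hd₀
  obtain ⟨M, _, ⟨ψ₀⟩⟩ := hd
  obtain ⟨A, iA, iH, ⟨e⟩, hB⟩ := exists_lift_of_chart_nil I
    (Algebra.TensorProduct.includeRight : S →ₐ[R] (R ⧸ I) ⊗[R] S) hI (redS_form I S) ψ₀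
  exact ⟨A, iA, iH, ⟨S, inferInstance, inferInstance, hét, hff, ⟨M, inferInstance, ⟨e⟩⟩⟩, hB⟩

end FinalNil

end Groth.Agent.Lib.Helper6.TwForm
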