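import Mathlib
import Groth.Prelude.Def_SGA3b
import Groth.Agent.Lib.Helper6.MTKer.MK3

/-!
# Twisted forms, part A5: charts of a quasi-isotrivial group; decomposition of the base by type;
charts of constant type over the pieces (helper6)
-/

set_option autoImplicit false
set_option linter.unusedSectionVars false
set_option linter.unusedVariables false
set_option linter.unusedSimpArgs false
set_option linter.style.haveILetI false
set_option linter.overlappingInstances false
set_option maxHeartbeats 800000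
set_option synthInstance.maxHeartbeats 400000

universe u
open TensorProduct Coalgebra SGA3b
open Groth.Agent.Lib.Helper6.MultType Groth.Agent.Lib.Helper6.Isotriv
open Groth.Agent.Lib.Helper6.QIso Groth.Agent.Lib.Helper6.MTKer

namespace Groth.Agent.Lib.Helper6.TwForm

/-- an étale chart of a Hopf algebra -/
structure QChart (K : Type u) [CommRing K] (A₀ : Type u) [CommRing A₀] [HopfAlgebra K A₀] where
  /-- the algebra of the chart -/
  P : Type u
  [cr : CommRing P]
  [alg : Algebra K P]
  et : Algebra.Etale K P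
  /-- the type of the chart -/
  M : Type u
  [grp : CommGroup M]
  /-- the chart -/
  ψ : P ⊗[K] A₀ ≃ₐc[P] MonoidAlgebra P M

attribute [instance] QChart.cr QChart.alg QChart.grp

section Charts

variable {K : Type u} [CommRing K] (A₀ : Type u) [CommRing A₀] [HopfAlgebra K A₀]

lemma exists_qchart (f : K)
    (h : IsQuasiIsotrivialConst (Localization.Away f) (Localization.Away f ⊗[K] A₀)) :
    ∃ ch : QChart K A₀, (PrimeSpectrum.basicOpen f : Set (PrimeSpectrum K)) ⊆
      Set.range (PrimeSpectrum.comap (algebraMap K ch.P)) := by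
  obtain ⟨P', _, _, hét, hff, hd⟩ := h
  haveI := hét
  haveI := hff
  letI aK : Algebra K P' := ((algebraMap (Localization.Away f) P').comp
    (algebraMap K (Localization.Away f))).toAlgebra
  haveI tow : IsScalarTower K (Localization.Away f) P' := IsScalarTower.of_algebraMap_eq' rfl
  haveI : Algebra.Etale K (Localization.Away f) := Algebra.Etale.of_isLocalizationAway f
  have hétK : Algebra.Etale K P' := Algebra.Etale.comp K (Localization.Away f) P'
  have hd' : IsDiag P' (P' ⊗[K] A₀) := IsDiag.of_tower (Localization.Away f) P' hd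
  obtain ⟨M, _, ⟨ψ⟩⟩ := hd'
  refine ⟨QChart.mk P' hétK M ψ, ?_⟩
  intro p hp
  rw [← PrimeSpectrum.localization_away_comap_range (Localization.Away f) f] at hp
  obtain ⟨p', rfl⟩ := hp
  obtain ⟨q, rfl⟩ := PrimeSpectrum.comap_surjective_of_faithfullyFlat
    (A := Localization.Away f) (B := P') p'
  refine ⟨q, ?_⟩
  show PrimeSpectrum.comap (algebraMap K P') q = _
  rw [← PrimeSpectrum.comap_comp_apply, ← IsScalarTower.algebraMap_eq]

/-- A quasi-isotrivial Hopf algebra has a finite family of étale charts covering `Spec K`. -/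
theorem exists_chart_family (h0 : IsQuasiIsotrivial K A₀) :
    ∃ (ι : Type u) (_ : Fintype ι) (P : ι → Type u) (_ : ∀ j, CommRing (P j))
      (_ : ∀ j, Algebra K (P j)) (M : ι → Type u) (_ : ∀ j, CommGroup (M j)),
      (∀ j, Algebra.Etale K (P j)) ∧
      (∀ j, Nonempty (P j ⊗[K] A₀ ≃ₐc[P j] MonoidAlgebra (P j) (M j))) ∧
      ∀ p : PrimeSpectrum K, ∃ j, p ∈ Set.range (PrimeSpectrum.comap (algebraMap K (P j))) := by
  obtain ⟨s, hs, H⟩ := h0
  obtain ⟨t, hts, ht⟩ := (Ideal.span_eq_top_iff_finite s).mp hs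
  have hch : ∀ j : (↥t), ∃ ch : QChart K A₀,
      (PrimeSpectrum.basicOpen j.1 : Set (PrimeSpectrum K)) ⊆
        Set.range (PrimeSpectrum.comap (algebraMap K ch.P)) :=
    fun j => exists_qchart A₀ j.1 (H j.1 (hts (Finset.mem_coe.mpr j.2)))
  choose ch hch using hch
  refine ⟨(↥t), inferInstance, fun j => (ch j).P, fun j => (ch j).cr, fun j => (ch j).alg,
    fun j => (ch j).M, fun j => (ch j).grp, fun j => (ch j).et, fun j => ⟨(ch j).ψ⟩, ?_⟩
  intro p
  by_contra hne
  have hne' := not_exists.mp hne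
  have h1 : ∀ j : (↥t), j.1 ∈ p.asIdeal := by
    intro j
    by_contra hj
    exact hne' j (hch j hj)
  have h2 : Ideal.span (t : Set K) ≤ p.asIdeal :=
    Ideal.span_le.mpr (fun x hx => h1 ⟨x, Finset.mem_coe.mp hx⟩)
  rw [ht] at h2
  exact p.isPrime.ne_top (top_le_iff.mp h2)

end Charts

section Decomp

variable {K : Type u} [CommRing K] {ι : Type u} [Fintype ι]
  (S : ι → Type u) [∀ j, CommRing (S j)] [∀ j, Algebra K (S j)]
  (Q : ι → Type u) [∀ j, CommGroup (Q j)]
  {B : Type u} [CommRing B] [HopfAlgebra K B]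
  (e : ∀ j, S j ⊗[K] B ≃ₐc[S j] MonoidAlgebra (S j) (Q j))
  (hflat : ∀ j, Module.Flat K (S j))
  (hcov : ∀ p : PrimeSpectrum K, ∃ j, p ∈ Set.range (PrimeSpectrum.comap (algebraMap K (S j))))

lemma isNilpotent_of_forall_prime {T : Type u} [CommRing T] (x : T)
    (h : ∀ p : PrimeSpectrum T, x ∈ p.asIdeal) : IsNilpotent x := by
  rw [← mem_nilradical, nilradical_eq_sInf, Ideal.mem_sInf]
  intro J hJ
  exact h ⟨J, hJ⟩

include e hflat hcov in
/-- The idempotents cutting out the loci of constant type. -/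
theorem exists_type_idem {C : Type u} [Fintype C] (rep : C → ι)
    (hinj : ∀ c c', TypeRel Q (rep c) (rep c') → c = c')
    (hsurj : ∀ j, ∃ c, TypeRel Q (rep c) j) :
    ∃ ee : C → K, CompleteOrthogonalIdempotents ee ∧
      ∀ c j, Nonempty (Q j ≃* Q (rep c)) ∨ algebraMap K (S j) (ee c) = 0 := by
  classical
  have hidem : ∀ j₀, ∃ f : K, IsIdempotentElem f ∧
      Vset K S Q j₀ = (PrimeSpectrum.basicOpen f : Set (PrimeSpectrum K)) :=
    fun j₀ => PrimeSpectrum.isClopen_iff.mp (Vset_clopen K S Q e hflat hcov j₀)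
  choose idem hidem hV using hidem
  have hmem : ∀ j₀ (p : PrimeSpectrum K), p ∈ Vset K S Q j₀ ↔ idem j₀ ∉ p.asIdeal := by
    intro j₀ p
    rw [hV j₀]
    exact Iff.rfl
  have hortho : ∀ c c', c ≠ c' → idem (rep c) * idem (rep c') = 0 := by
    intro c c' hcc
    apply ((hidem (rep c)).mul (hidem (rep c'))).eq_zero_of_isNilpotent
    apply isNilpotent_of_forall_prime
    intro p
    by_contra hp
    have h1 : idem (rep c) ∉ p.asIdeal := fun h => hp (p.asIdeal.mul_mem_right _ h)
    have h2 : idem (rep c') ∉ p.asIdeal := fun h => hp (p.asIdeal.mul_mem_left _ h)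
    exact hcc (hinj c c' (typeRel_of_mem_Vset K S Q e (rep c) (rep c') p
      ((hmem _ p).mpr h1) ((hmem _ p).mpr h2)))
  have hOI : OrthogonalIdempotents (fun c => idem (rep c)) :=
    ⟨fun c => hidem (rep c), fun c c' hcc => hortho c c' hcc⟩
  have hcomplete : ∑ c, idem (rep c) = 1 := by
    have hs : IsIdempotentElem (1 - ∑ c, idem (rep c)) :=
      (hOI.isIdempotentElem_sum (s := Finset.univ)).one_sub
    have h0 : (1 - ∑ c, idem (rep c)) = 0 := by
      apply hs.eq_zero_of_isNilpotent
      apply isNilpotent_of_forall_prime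
      intro p
      by_contra hp
      obtain ⟨j, hj⟩ := exists_mem_Vset K S Q hcov p
      obtain ⟨c, hc⟩ := hsurj j
      have hpc : p ∈ Vset K S Q (rep c) := by
        obtain ⟨k, hjk, hk⟩ := (mem_Vset K S Q j p).mp hj
        exact (mem_Vset K S Q (rep c) p).mpr ⟨k, typeRel_trans Q hc hjk, hk⟩
      have h1 : idem (rep c) ∉ p.asIdeal := (hmem _ p).mp hpc
      have h3 : idem (rep c) * ∑ c', idem (rep c') = idem (rep c) :=
        hOI.mul_sum_of_mem (Finset.mem_univ c)
      have h2 : (1 - ∑ c', idem (rep c')) * idem (rep c) = 0 := by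
        rw [sub_mul, one_mul, mul_comm (∑ c', idem (rep c')) (idem (rep c)), h3, sub_self]
      have h4 : (1 - ∑ c', idem (rep c')) * idem (rep c) ∈ p.asIdeal := by
        rw [h2]
        exact p.asIdeal.zero_mem
      rcases p.isPrime.mem_or_mem h4 with h5 | h5
      · exact hp h5
      · exact h1 h5
    exact (sub_eq_zero.mp h0).symm
  refine ⟨fun c => idem (rep c), ⟨hOI, hcomplete⟩, ?_⟩
  intro c j
  by_cases hrel : TypeRel Q (rep c) j
  · left
    exact typeRel_symm Q hrel
  · right
    have hi : IsIdempotentElem (algebraMap K (S j) (idem (rep c))) :=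
      (hidem (rep c)).map (algebraMap K (S j))
    apply hi.eq_zero_of_isNilpotent
    apply isNilpotent_of_forall_prime
    intro q
    by_contra hq
    apply hrel
    have hp1 : PrimeSpectrum.comap (algebraMap K (S j)) q ∈ Vset K S Q j :=
      (mem_Vset K S Q j _).mpr ⟨j, typeRel_refl Q j, ⟨q, rfl⟩⟩
    have hp2 : PrimeSpectrum.comap (algebraMap K (S j)) q ∈ Vset K S Q (rep c) :=
      (hmem _ _).mpr hq
    exact typeRel_of_mem_Vset K S Q e (rep c) j _ hp2 hp1

/-- the setoid of indices with isomorphic types -/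
def typeSetoid : Setoid ι :=
  ⟨TypeRel Q, ⟨typeRel_refl Q, fun h => typeRel_symm Q h, fun h h' => typeRel_trans Q h h'⟩⟩

include e hflat hcov in
/-- **Decomposition by type**: complete orthogonal idempotents of the base, indexed by the
isomorphism classes of types, such that a chart whose type is not the one of the piece vanishes
over the piece. -/
theorem exists_type_decomp :
    ∃ (C : Type u) (_ : Fintype C) (_ : DecidableEq C) (rep : C → ι) (ee : C → K),
      CompleteOrthogonalIdempotents ee ∧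
      ∀ c j, Nonempty (Q j ≃* Q (rep c)) ∨ algebraMap K (S j) (ee c) = 0 := by
  classical
  haveI : Fintype (Quotient (typeSetoid Q)) := Fintype.ofFinite _
  obtain ⟨ee, h1, h2⟩ := exists_type_idem S Q e hflat hcov (C := Quotient (typeSetoid Q))
    (fun c => c.out)
    (fun c c' h => Quotient.out_equiv_out.mp h)
    (fun j => ⟨Quotient.mk (typeSetoid Q) j, Quotient.mk_out (s := typeSetoid Q) j⟩)
  exact ⟨Quotient (typeSetoid Q), inferInstance, inferInstance, fun c => c.out, ee, h1, h2⟩

end Decomp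

section Subsing

lemma nonempty_bialgEquiv_of_subsingleton (S X Y : Type u) [CommRing S] [Subsingleton S]
    [CommRing X] [CommRing Y] [Bialgebra S X] [Bialgebra S Y] : Nonempty (X ≃ₐc[S] Y) := by
  haveI : Subsingleton X := Module.subsingleton S X
  haveI : Subsingleton Y := Module.subsingleton S Y
  haveI : Subsingleton (Y ⊗[S] Y) := Module.subsingleton S _
  exact ⟨BialgEquiv.ofAlgEquiv
    { toFun := fun _ => 0
      invFun := fun _ => 0
      left_inv := fun _ => Subsingleton.elim _ _
      right_inv := fun _ => Subsingleton.elim _ _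
      map_mul' := fun _ _ => Subsingleton.elim _ _
      map_add' := fun _ _ => Subsingleton.elim _ _
      commutes' := fun _ => Subsingleton.elim _ _ }
    (AlgHom.ext fun _ => Subsingleton.elim _ _)
    (AlgHom.ext fun _ => Subsingleton.elim _ _)⟩

lemma subsingleton_tensor_of_idem {K : Type u} [CommRing K] (K' P : Type u) [CommRing K']
    [CommRing P] [Algebra K K'] [Algebra K P] (x : K) (h1 : algebraMap K K' x = 1)
    (h0 : algebraMap K P x = 0) : Subsingleton (K' ⊗[K] P) := by
  apply subsingleton_of_zero_eq_one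
  have h : ((1 : K') ⊗ₜ[K] (1 : P) : K' ⊗[K] P) = 0 := by
    rw [← h1, Algebra.algebraMap_eq_smul_one, TensorProduct.smul_tmul,
      ← Algebra.algebraMap_eq_smul_one, h0, TensorProduct.tmul_zero]
  rw [Algebra.TensorProduct.one_def, h]

end Subsing

section PieceCover

variable {K : Type u} [CommRing K] {A₀ : Type u} [CommRing A₀] [HopfAlgebra K A₀]

/-- Base change of a chart, with a change of the group. -/
lemma chart_baseChange (P : Type u) [CommRing P] [Algebra K P] {M M' : Type u} [CommGroup M]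
    [CommGroup M'] (ψ : P ⊗[K] A₀ ≃ₐc[P] MonoidAlgebra P M) (θ : M ≃* M')
    (K' : Type u) [CommRing K'] [Algebra K K'] :
    Nonempty ((K' ⊗[K] P) ⊗[K'] (K' ⊗[K] A₀) ≃ₐc[K' ⊗[K] P]
      MonoidAlgebra (K' ⊗[K] P) M') := by
  letI aP : Algebra P (K' ⊗[K] P) :=
    (Algebra.TensorProduct.includeRight : P →ₐ[K] K' ⊗[K] P).toRingHom.toAlgebra
  haveI tP : IsScalarTower K P (K' ⊗[K] P) := IsScalarTower.of_algebraMap_eq (fun r => by
    show algebraMap K (K' ⊗[K] P) r = (1 : K') ⊗ₜ[K] (algebraMap K P r)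
    rw [Algebra.TensorProduct.algebraMap_apply, Algebra.algebraMap_eq_smul_one,
      TensorProduct.smul_tmul, ← Algebra.algebraMap_eq_smul_one])
  exact ⟨((cancelBaseChangeBialgEquiv K K' A₀ (K' ⊗[K] P)).trans
    (chartOver ψ (K' ⊗[K] P))).trans
    (MonoidAlgebra.domCongrBialgEquiv (K' ⊗[K] P) (K' ⊗[K] P) θ)⟩

variable {ι : Type u} [Fintype ι] (P : ι → Type u) [∀ j, CommRing (P j)] [∀ j, Algebra K (P j)]
  [∀ j, Algebra.Etale K (P j)] (M : ι → Type u) [∀ j, CommGroup (M j)]

/-- Over a piece of the base on which every chart either has the type `M'` or vanishes, the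
group is split, with type `M'`, by an étale faithfully flat algebra. -/
theorem piece_cover (ψ : ∀ j, P j ⊗[K] A₀ ≃ₐc[P j] MonoidAlgebra (P j) (M j))
    [Module.FaithfullyFlat K (∀ j, P j)]
    (K' : Type u) [CommRing K'] [Algebra K K'] (M' : Type u) [CommGroup M']
    (h : ∀ j, Nonempty (M j ≃* M') ∨ Subsingleton (K' ⊗[K] P j)) :
    ∃ (W : Type u) (_ : CommRing W) (_ : Algebra K' W), Algebra.Etale K' W ∧
      Module.FaithfullyFlat K' W ∧ IsDiag W (W ⊗[K'] (K' ⊗[K] A₀)) := by
  classical
  have hch : ∀ j, Nonempty ((K' ⊗[K] P j) ⊗[K'] (K' ⊗[K] A₀) ≃ₐc[K' ⊗[K] P j]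
      MonoidAlgebra (K' ⊗[K] P j) M') := by
    intro j
    rcases h j with ⟨⟨θ⟩⟩ | hs
    · exact chart_baseChange (P j) (ψ j) θ K'
    · haveI := hs
      exact nonempty_bialgEquiv_of_subsingleton _ _ _
  obtain ⟨E⟩ := nonempty_chart_pi (R := K') (fun j => K' ⊗[K] P j) (B := K' ⊗[K] A₀) (Q := M')
    (fun j => Classical.choice (hch j))
  haveI : Module.FaithfullyFlat K' (∀ j, K' ⊗[K] P j) :=
    Module.FaithfullyFlat.of_linearEquiv K' (K' ⊗[K] (∀ j, P j))
      (TensorProduct.piRight K K' K' P).symm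
  exact ⟨∀ j, K' ⊗[K] P j, inferInstance, inferInstance, inferInstance, inferInstance,
    ⟨M', inferInstance, ⟨E⟩⟩⟩

end PieceCover

end Groth.Agent.Lib.Helper6.TwForm
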