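import Mathlib
import Groth.Prelude.Def_SGA3b
import Groth.Agent.Lib.Helper6.TwForm.TWA3
import Groth.Agent.Lib.Helper6.TwForm.TWA4
import Groth.Agent.Lib.Helper6.TwForm.TWA5
import Groth.Agent.Lib.Helper6.IsoNil.IN3

/-!
# Twisted forms, part A6: lifting of quasi-isotrivial groups of multiplicative type through a nil
ideal (SGA 3, X 2.1 / 2.3 in Hopf-algebra form) (helper6)

The base is decomposed into finitely many open and closed pieces on which the type is constant;
over each piece the group is lifted by lifting its descent datum; the lifts are glued.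
-/

set_option autoImplicit false
set_option linter.unusedSectionVars false
set_option linter.unusedVariables false
set_option linter.unusedSimpArgs false
set_option linter.style.haveILetI false
set_option linter.overlappingInstances false
set_option maxHeartbeats 800000
set_option synthInstance.maxHeartbeats 400000

universe u
open TensorProduct Coalgebra SGA3b
open Groth.Agent.Lib.Helper6.MultType Groth.Agent.Lib.Helper6.Isotriv
open Groth.Agent.Lib.Helper6.QIso Groth.Agent.Lib.Helper6.MTKer
open Groth.Agent.Lib.Helper6.IsoNil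

namespace Groth.Agent.Lib.Helper6.TwForm

section Transfer

variable {R : Type u} [CommRing R] {A : Type u} [CommRing A] [HopfAlgebra R A]

/-- If `S` is the localisation of `R` at `f` and `S ⊗ A` is quasi-isotrivial of constant type,
then so is `R_f ⊗ A`. -/
lemma isQuasiIsotrivialConst_away_of_piece (f : R) (S : Type u) [CommRing S] [Algebra R S]
    [IsLocalization.Away f S] (N : Type u) [CommRing N] [HopfAlgebra S N]
    (φ : S ⊗[R] A ≃ₐc[S] N) (hN : IsQuasiIsotrivialConst S N) :
    IsQuasiIsotrivialConst (Localization.Away f) (Localization.Away f ⊗[R] A) := by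
  obtain ⟨R', _, _, hét, hff, hd⟩ := hN
  haveI := hét
  haveI := hff
  let e : Localization.Away f ≃ₐ[R] S := IsLocalization.algEquiv (Submonoid.powers f) _ _
  letI aL : Algebra (Localization.Away f) R' :=
    ((algebraMap S R').comp (e : Localization.Away f →+* S)).toAlgebra
  obtain ⟨hét', hff'⟩ := etale_ff_of_ringEquiv (P := Localization.Away f) (Q := S) (R0 := R')
    e.toRingEquiv (fun x => rfl)
  letI aR : Algebra R R' := ((algebraMap S R').comp (algebraMap R S)).toAlgebra
  haveI : IsScalarTower R S R' := IsScalarTower.of_algebraMap_eq' rfl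
  haveI : IsScalarTower R (Localization.Away f) R' := IsScalarTower.of_algebraMap_eq (fun r => by
    show algebraMap S R' (algebraMap R S r) =
      algebraMap S R' (e (algebraMap R (Localization.Away f) r))
    rw [e.commutes])
  have h1 : IsDiag R' (R' ⊗[S] (S ⊗[R] A)) := by
    obtain ⟨M, _, ⟨ψ⟩⟩ := hd
    exact ⟨M, inferInstance, ⟨(baseChangeBialgEquiv R' φ).trans ψ⟩⟩
  have h2 : IsDiag R' (R' ⊗[R] A) := IsDiag.of_tower S R' h1
  have h3 : IsDiag R' (R' ⊗[Localization.Away f] (Localization.Away f ⊗[R] A)) :=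
    IsDiag.to_tower (Localization.Away f) R' h2
  exact ⟨R', inferInstance, aL, hét', hff', h3⟩

end Transfer

section Assemble

variable {R : Type u} [CommRing R] (I : Ideal R) {C : Type u} [Fintype C] [DecidableEq C]
variable (Sc : C → Type u) [∀ c, CommRing (Sc c)] [∀ c, Algebra R (Sc c)]
variable (hcrt : Function.Bijective (fun (r : R) (c : C) => algebraMap R (Sc c) r))
variable (A₀ : Type u) [CommRing A₀] [HopfAlgebra (R ⧸ I) A₀]

include hcrt in
/-- Gluing of lifts over the pieces of a finite decomposition of the base. -/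
theorem assemble
    (hpiece : ∀ c, ∃ (A' : Type u) (_ : CommRing A') (_ : HopfAlgebra (Sc c) A'),
      IsQuasiIsotrivialConst (Sc c) A' ∧
      Nonempty (((Sc c ⧸ I.map (algebraMap R (Sc c))) ⊗[Sc c] A')
        ≃ₐc[Sc c ⧸ I.map (algebraMap R (Sc c))]
        ((Sc c ⧸ I.map (algebraMap R (Sc c))) ⊗[R ⧸ I] A₀))) :
    ∃ (A : Type u) (_ : CommRing A) (_ : HopfAlgebra R A),
      IsQuasiIsotrivial R A ∧ Nonempty (((R ⧸ I) ⊗[R] A) ≃ₐc[R ⧸ I] A₀) := by
  choose N iN hN hq hred using hpiece
  letI : ∀ c, CommRing (N c) := iN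
  letI : ∀ c, HopfAlgebra (Sc c) (N c) := hN
  obtain ⟨A, iA, iH, hA⟩ := Dec.exists_hopf_pi hcrt N
  refine ⟨A, iA, iH, ?_, ?_⟩
  · refine ⟨Set.range (Dec.eps hcrt), ?_, ?_⟩
    · rw [Ideal.eq_top_iff_one, ← Dec.sum_eps hcrt]
      exact Ideal.sum_mem _ (fun c _ => Ideal.subset_span ⟨c, rfl⟩)
    · rintro f ⟨c, rfl⟩
      haveI := Dec.isLocalization_away_eps hcrt c
      obtain ⟨φ⟩ := hA c
      exact isQuasiIsotrivialConst_away_of_piece (Dec.eps hcrt c) (Sc c) (N c) φ (hq c)
  · obtain ⟨E⟩ := Dec.bialgEquiv_of_local (Dec.hcrt_quot hcrt I) (B := (R ⧸ I) ⊗[R] A)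
      (B' := A₀)
      (fun c => (((cancelBaseChangeBialgEquiv R (R ⧸ I) A
        (Sc c ⧸ I.map (algebraMap R (Sc c)))).trans
        (cancelBaseChangeBialgEquiv R (Sc c) A (Sc c ⧸ I.map (algebraMap R (Sc c)))).symm).trans
        (baseChangeBialgEquiv (Sc c ⧸ I.map (algebraMap R (Sc c)))
          (Classical.choice (hA c)))).trans (Classical.choice (hred c)))
    exact ⟨E⟩

include hcrt in
/-- Lifting through a nil ideal, given a decomposition of the base adapted to the types of a
finite family of étale charts. -/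
theorem lift_of_decomp (hI : ∀ x ∈ I, IsNilpotent x)
    {ι : Type u} [Fintype ι] (P : ι → Type u) [∀ j, CommRing (P j)]
    [∀ j, Algebra (R ⧸ I) (P j)] [∀ j, Algebra.Etale (R ⧸ I) (P j)]
    (M : ι → Type u) [∀ j, CommGroup (M j)]
    (ψ : ∀ j, P j ⊗[R ⧸ I] A₀ ≃ₐc[P j] MonoidAlgebra (P j) (M j))
    (hcov : ∀ p : PrimeSpectrum (R ⧸ I), ∃ j,
      p ∈ Set.range (PrimeSpectrum.comap (algebraMap (R ⧸ I) (P j))))
    (rep : C → ι)
    (htype : ∀ c j, Nonempty (M j ≃* M (rep c)) ∨
      ∃ x : R, algebraMap R (Sc c) x = 1 ∧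
        algebraMap (R ⧸ I) (P j) (Ideal.Quotient.mk I x) = 0) :
    ∃ (A : Type u) (_ : CommRing A) (_ : HopfAlgebra R A),
      IsQuasiIsotrivial R A ∧ Nonempty (((R ⧸ I) ⊗[R] A) ≃ₐc[R ⧸ I] A₀) := by
  classical
  haveI : Module.Flat (R ⧸ I) (∀ j, P j) := flat_pi P (fun j => inferInstance)
  haveI hffP : Module.FaithfullyFlat (R ⧸ I) (∀ j, P j) := by
    apply Module.FaithfullyFlat.of_comap_surjective
    intro p
    obtain ⟨j, hj⟩ := hcov p
    have h1 : p ∈ Set.range (PrimeSpectrum.comap (algebraMap (R ⧸ I) (∀ k, P k))) := by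
      rw [range_comap_pi P]
      exact Set.mem_iUnion.mpr ⟨j, hj⟩
    exact h1
  apply assemble I Sc hcrt A₀
  intro c
  have hnil : ∀ x ∈ I.map (algebraMap R (Sc c)), IsNilpotent x := by
    intro x hx
    have h2 : I.map (algebraMap R (Sc c)) ≤ nilradical (Sc c) := by
      rw [Ideal.map_le_iff_le_comap]
      intro y hy
      rw [Ideal.mem_comap, mem_nilradical]
      exact (hI y hy).map (algebraMap R (Sc c))
    exact mem_nilradical.mp (h2 hx)
  obtain ⟨W, _, _, hét, hff, hd⟩ := piece_cover (A₀ := A₀) P M ψ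
    (Sc c ⧸ I.map (algebraMap R (Sc c))) (M (rep c)) (fun j => by
      rcases htype c j with h | ⟨x, hx1, hx0⟩
      · exact Or.inl h
      · right
        exact subsingleton_tensor_of_idem _ _ (Ideal.Quotient.mk I x) (by
          show Ideal.Quotient.mk _ (algebraMap R (Sc c) x) = 1
          rw [hx1, map_one]) hx0)
  haveI := hét
  haveI := hff
  exact exists_qiconst_lift (Sc c) (I.map (algebraMap R (Sc c))) hnil
    ((Sc c ⧸ I.map (algebraMap R (Sc c))) ⊗[R ⧸ I] A₀) W hd

end Assemble

section Final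

/-- **SGA 3, X 2.1/2.3 (Hopf-algebra form)**: a quasi-isotrivial group of multiplicative type over
`R/I`, with `I` a nil ideal, lifts to a quasi-isotrivial group of multiplicative type over `R`. -/
theorem quasiIsotrivial_lifts_mod_nil (R : Type u) [CommRing R] (I : Ideal R)
    (hI : ∀ x ∈ I, IsNilpotent x)
    (A₀ : Type u) [CommRing A₀] [HopfAlgebra (R ⧸ I) A₀] (h0 : IsQuasiIsotrivial (R ⧸ I) A₀) :
    ∃ (A : Type u) (_ : CommRing A) (_ : HopfAlgebra R A),
      IsQuasiIsotrivial R A ∧ Nonempty (((R ⧸ I) ⊗[R] A) ≃ₐc[R ⧸ I] A₀) := by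
  classical
  obtain ⟨ι, _, P, _, _, M, _, hét, hψ, hcov⟩ := exists_chart_family A₀ h0
  haveI := hét
  obtain ⟨C, _, _, rep, ee, hee, htype⟩ := exists_type_decomp P M
    (fun j => Classical.choice (hψ j)) (fun j => inferInstance) hcov
  obtain ⟨ε, hε, hεe⟩ := CompleteOrthogonalIdempotents.lift_of_isNilpotent_ker
    (Ideal.Quotient.mk I) (by rw [Ideal.mk_ker]; exact hI) hee
    (fun c => RingHom.mem_range.mpr (Ideal.Quotient.mk_surjective (ee c)))
  have hcrt : Function.Bijective
      (fun (r : R) (c : C) => algebraMap R (R ⧸ Ideal.span {1 - ε c}) r) := hε.bijective_pi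
  refine lift_of_decomp I (fun c => R ⧸ Ideal.span {1 - ε c}) hcrt A₀ hI P M
    (fun j => Classical.choice (hψ j)) hcov rep (fun c j => ?_)
  rcases htype c j with h | h
  · exact Or.inl h
  · right
    refine ⟨ε c, ?_, ?_⟩
    · have h1 : (1 : R) - ε c ∈ Ideal.span {1 - ε c} := Ideal.subset_span rfl
      exact (Ideal.Quotient.eq.mpr h1).symm.trans (map_one _)
    · have h2 : Ideal.Quotient.mk I (ε c) = ee c := congrFun hεe c
      rw [h2]
      exact h

end Final

end Groth.Agent.Lib.Helper6.TwForm
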